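import Cfsg.Agent.Mrg.Omega.NO3S.TV.Sys
import Cfsg.Agent.Mrg.Omega.NO3S.TwoOne.LocA
import Cfsg.Agent.Mrg.Omega.NO3S.TwoOne.Cases
import Cfsg.Agent.Mrg.Omega.NO3S.Fit.Char
import Cfsg.Agent.Mrg.Omega.CaseL.Base
import Cfsg.Agent.Mrg.Omega.NO3S.TwoOne.LThreeC
import Cfsg.Agent.Involutions.BaerSuzuki
import Mathlib
import Cfsg.Agent.Mrg.Omega.NO3S.TwoOne.DRel

-- merged: Cfsg.Agent.Mrg.Omega.NO3S.TwoOne.TvBigB
section

/-!
# NO-3S, `CompP`: `k ≥ 2`, `A` consists of `λ`-transvections: one block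

`h : One T V z`, `[W_p, W_q] ≤ V`, `|A| ≥ 4`; `B` : the blocks of THEOREM TV2.

* `One.tva`, `One.al` : the instances of `TVA`, `Al`;
* `Set1` : the data; `Set1.ee_comm` : `E_p = D_p`;
* `Set1.card_ws` : there is only one block, `|W_z| = 16`. For several blocks let `C'` be the preimage of the stabiliser
  of the block of `λ`, `W'` the corresponding subfamily: the elements of odd order of `C_G(W'_z)` centralise
  `W_y/E_y`, hence `W'_y`; so `C_G(W'_z)` is a 2-group. But it contains the `W_t`, `t` over another block.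
-/

set_option autoImplicit false
set_option linter.unusedSectionVars false

namespace Cfsg.Agent.Omega.NO3S.TvBig

open Subgroup Cfsg Cfsg.Agent.ZN Cfsg.Agent.MinSimple.Geo Cfsg.Agent.Omega.CaseL
open Cfsg.Agent.Omega.NO3S.Fit Cfsg.Agent.Omega.NO3S.TwoOne Cfsg.Agent.Omega.NO3S.TV
open Cfsg.Agent.ZN.Block (conj_mem_of_normalizer conj_mem_of_normalizer' le_normalizer_of_forall
  mem_normalizer_of)
open scoped commutatorElement

universe u

variable {G : Type u} [Group G] {T V : Subgroup G} {z : G}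
variable {M H : Type u} [AddCommGroup M] [Group H] [DistribMulAction H M] [Module (ZMod 2) M]

/-- the data -/
structure Set1 (T V : Subgroup G) (z : G) (R : MRep V cg z M H) (y : G) (B : H → AddSubgroup M) : Prop where
  one : One T V z
  tv : AllTv V
  hy : y ∈ V
  hy1 : y ≠ 1
  hyz : y ≠ z
  c : TVA (R.pi y) (a0 R y)
  b : Bk (R.pi y) (a0 R y) B
  four : 4 ≤ Nat.card (a0 R y)

theorem tva [Finite G] (h : One T V z) (hA : AllTv V) (R : MRep V cg z M H) [FaithfulSMul H M] [Finite H]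
    (hc : CenFit R) {y : G} (hy : y ∈ V) (hy1 : y ≠ 1) (hyz : y ≠ z) : TVA (R.pi y) (a0 R y) where
  ne := R.v0_ne h.fam hy hy1 hyz
  span := R.span h.fam hy hy1 hyz
  o2 := by
    intro N hN h2
    have : Fact (Nat.Prime 2) := ⟨Nat.prime_two⟩
    exact h.fit_eq_bot R hc hN h2.isNilpotent
  nor := fun x hx a ha => h.loc_A_conj R hy hy1 hyz hx ha
  tv := by
    intro a ha m
    have hz := h.ln.z_mem
    have hz1 := h.ln.z_ne
    have hyW := h.V_le hz hz1 hy
    obtain ⟨b, hb, rfl⟩ := (h.mem_a0 R hy hy1).mp ha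
    obtain ⟨w, hw, rfl⟩ := h.rp_surj R m
    have h2 : b * w * b⁻¹ * w⁻¹ ∈ V := hA y hy hy1 z hz hz1 b hb w hw
    have hbw : b * w * b⁻¹ = (b * w * b⁻¹ * w⁻¹) * w := by group
    rw [h.rp_act R (h.ws_le_cz hy hy1 hb) hw, hbw, h.rp_mul R (h.V_le hz hz1 h2) hw]
    by_cases h3 : b * w * b⁻¹ * w⁻¹ = 1
    · left; rw [h3, h.rp_one R, zero_add]
    · rcases h.third hz hz1 hy hy1 hyz h2 h3 with e | e | e
      · left; rw [e, (h.rp_zero R (h.V_le hz hz1 hz)).mpr (Or.inr rfl), zero_add]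
      · right; rw [e, add_comm]
      · right
        rw [e, h.rp_mul R (h.V_le hz hz1 hz) hyW, (h.rp_zero R (h.V_le hz hz1 hz)).mpr (Or.inr rfl), zero_add,
          add_comm]
  fix := fun a ha => h.loc_fix R hy hy1 hyz ha (h.loc_self R hy hy1)

theorem al [Finite G] (h : One T V z) (R : MRep V cg z M H) {y : G} (hy : y ∈ V) (hy1 : y ≠ 1) (hyz : y ≠ z) :
    Al (R.pi y) (a0 R y) (al0 R y) where
  mem := h.loc_al_mem R hy hy1 hyz
  add := h.loc_al_add R hy hy1 hyz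
  surj := fun _ ha => h.loc_al_surj R hy hy1 hyz ha
  conj := fun _ hx m => h.loc_al_conj R hy hy1 hyz hx m
  v0 := (h.al0_one R hy hy1 hyz (h.V_le h.ln.z_mem h.ln.z_ne hy)).mpr (h.V_le_ee h.ln.z_mem h.ln.z_ne hy)

namespace Set1

variable {R : MRep V cg z M H} {y : G} {B : H → AddSubgroup M} [Finite G] [Finite M] [Finite H] [FaithfulSMul H M]

theorem alS (s : Set1 T V z R y B) : Al (R.pi y) (a0 R y) (al0 R y) := al s.one R s.hy s.hy1 s.hyz

/-- the stabiliser of the block of `λ` -/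
def st (s : Set1 T V z R y B) : Subgroup H where
  carrier := {x | B x = B 1}
  one_mem' := rfl
  mul_mem' := by
    intro x y' hx hy'
    change B x = B 1 at hx
    change B y' = B 1 at hy'
    change B (x * y') = B 1
    have h1 := s.b.self y'
    rw [hy'] at h1
    have h2 := s.b.smul x 1 _ h1
    rw [mul_one, hx, ← mul_smul] at h2
    exact s.b.eq_of_mem (s.b.self _) h2 (s.b.ne_self s.c _)
  inv_mem' := by
    intro x hx
    change B x = B 1 at hx
    change B x⁻¹ = B 1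
    have h1 := s.b.self_one
    rw [← hx] at h1
    have h2 := s.b.smul x⁻¹ x _ h1
    rw [inv_mul_cancel] at h2
    exact s.b.eq_of_mem (s.b.self _) h2 (s.b.ne_self s.c _)

theorem mem_st (s : Set1 T V z R y B) {x : H} : x ∈ s.st ↔ B x = B 1 := Iff.rfl

theorem span_st (s : Set1 T V z R y B) :
    AddSubgroup.closure (Set.range fun x : s.st => (x : H) • R.pi y) = B 1 := by
  apply le_antisymm
  · rw [AddSubgroup.closure_le]
    rintro _ ⟨x, rfl⟩
    have := s.b.self (x : H)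
    rw [s.mem_st.mp x.2] at this
    exact this
  · intro m hm
    by_cases h0 : m = 0
    · rw [h0]; exact zero_mem _
    · obtain ⟨k, rfl, hk⟩ := s.b.pt 1 m hm h0
      exact AddSubgroup.subset_closure ⟨⟨k, hk⟩, rfl⟩

/-- the subfamily -/
def sf (s : Set1 T V z R y B) : G → Subgroup G := subf V z (R.pre s.st)

theorem le_pre (s : Set1 T V z R y B) : normalizer (V : Set G) ⊓ centralizer ({z} : Set G) ≤ R.pre s.st :=
  R.le_pre s.one.fam s.hy s.hy1 s.hyz fun x hx => s.b.eq_smul s.c (by rw [hx, one_smul])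

theorem sf_z (s : Set1 T V z R y B) : s.sf z = R.pre s.st := subf_z s.le_pre

theorem mem_wz (s : Set1 T V z R y B) {w : G} : w ∈ ww V s.sf z ↔ w ∈ ws V z ∧ R.pi w ∈ B 1 := by
  have e : ww V s.sf z = wf V (R.pre s.st) := by rw [ww, s.sf_z]
  rw [e, R.mem_wf_pre s.one.fam s.hy s.hy1 s.hyz, s.span_st, s.one.ww_cg s.one.ln.z_mem s.one.ln.z_ne]

theorem al_iff (s : Set1 T V z R y B) {w : G} (hw : w ∈ ws V z) : al0 R y (R.pi w) = 1 ↔ w ∈ ee V z :=
  s.one.al0_one R s.hy s.hy1 s.hyz hw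

/-- `W_z = W'_z E_z` -/
theorem split (s : Set1 T V z R y B) {w : G} (hw : w ∈ ws V z) : ∃ w' ∈ ww V s.sf z, w'⁻¹ * w ∈ ee V z := by
  obtain ⟨m1, hm1, e1⟩ := s.b.exists_one s.c s.four s.alS (R.pi w)
  obtain ⟨w', hw', rfl⟩ := s.one.rp_surj R m1
  refine ⟨w', s.mem_wz.mpr ⟨hw', hm1⟩, ?_⟩
  rw [← s.al_iff (mul_mem (inv_mem hw') hw), s.one.rp_mul R (inv_mem hw') hw, s.one.rp_inv R hw', s.alS.add, e1]
  exact s.one.loc_sq R s.hy s.hy1 s.hyz (s.alS.mem _)

/-- `W'_z ∩ E_z ≤ V` -/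
theorem inf_le (s : Set1 T V z R y B) {w : G} (hw : w ∈ ww V s.sf z) (hE : w ∈ ee V z) : w ∈ V := by
  obtain ⟨hw1, hw2⟩ := s.mem_wz.mp hw
  have hz := s.one.ln.z_mem
  have hz1 := s.one.ln.z_ne
  rcases s.b.al_self s.c s.four s.alS hw2 ((s.al_iff hw1).mpr hE) with e | e
  · rcases (s.one.rp_zero R hw1).mp e with e | e
    · rw [e]; exact one_mem _
    · rw [e]; exact hz
  · rcases (s.one.rp_eq R hw1 (s.one.V_le hz hz1 s.hy)).mp e with e | e
    · rw [e]; exact s.hy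
    · rw [e]; exact mul_mem hz s.hy

/-- `A` centralises `Ē` -/
theorem fix_of_al (s : Set1 T V z R y B) {m : M} (hm : al0 R y m = 1) {a : H} (ha : a ∈ a0 R y) : a • m = m := by
  have hal := s.alS
  have h10 : al0 R y 0 = 1 := by
    have := hal.add 0 0
    rw [add_zero] at this
    exact (mul_eq_left.mp this.symm)
  let E : AddSubgroup M :=
    { carrier := {m | ∃ m1 ∈ B 1, al0 R y (m + m1) = 1 ∧ a • (m + m1) = m + m1}
      zero_mem' := ⟨0, zero_mem _, by rw [add_zero, h10], by rw [add_zero, smul_zero]⟩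
      add_mem' := by
        rintro m n ⟨m1, h1, e1, f1⟩ ⟨n1, h2, e2, f2⟩
        have e : m + n + (m1 + n1) = (m + m1) + (n + n1) := by abel
        refine ⟨m1 + n1, add_mem h1 h2, ?_, ?_⟩
        · rw [e, hal.add, e1, e2, one_mul]
        · rw [e, smul_add, f1, f2]
      neg_mem' := by
        rintro m ⟨m1, h1, e1, f1⟩
        have e : -m = m := neg_eq_of_add_eq_zero_left (two_of_module m)
        exact ⟨m1, h1, by rw [e, e1], by rw [e, f1]⟩ }
  have h1 : (⨆ h, B h) ≤ E := by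
    refine iSup_le fun h m hm => ?_
    by_cases hh : B h = B 1
    · refine ⟨m, hh ▸ hm, ?_, ?_⟩
      · rw [two_of_module, h10]
      · rw [two_of_module, smul_zero]
    · refine ⟨0, zero_mem _, ?_, ?_⟩
      · rw [add_zero]; exact s.b.al_other s.c s.four hal hh hm
      · rw [add_zero]; exact s.b.one_triv hh ha hm
  rw [s.b.sup] at h1
  obtain ⟨m1, hm1, e1, f1⟩ := h1 (AddSubgroup.mem_top m)
  rw [hal.add, hm, one_mul] at e1
  have f2 : a • m1 = m1 := by
    rcases s.b.al_self s.c s.four hal hm1 e1 with e | e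
    · rw [e, smul_zero]
    · rw [e]; exact s.c.fix a ha
  rw [smul_add, f2] at f1
  exact add_right_cancel f1

/-- `E_z = D_z` -/
theorem ee_comm_zy (s : Set1 T V z R y B) {e b : G} (he : e ∈ ee V z) (hb : b ∈ ws V y) : e * b = b * e := by
  have h := s.one
  have hz := h.ln.z_mem
  have hz1 := h.ln.z_ne
  have h1 := s.fix_of_al ((s.al_iff he.1).mpr he) (h.mem_a0' R s.hy s.hy1 hb)
  have hbe : b * e * b⁻¹ ∈ ws V z :=
    conj_mem_of_normalizer (h.cent_norm hz) (h.ws_le_centralizer_V s.hy s.hy1 hb) he.1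
  rw [h.rp_act R (h.ws_le_cz s.hy s.hy1 hb) he.1] at h1
  rcases (h.rp_eq R hbe he.1).mp h1 with e1 | e1
  · exact (comm_of_conj_eq e1).symm
  · exfalso
    have h2 := (he.2 y s.hy s.hy1).2.1 b hb
    have hzb : z * b = b * z := h.V_comm hz (h.ws_le_centralizer_V s.hy s.hy1 hb)
    have e2 : e * b * e⁻¹ * b⁻¹ = z := by
      have h3 : b * e = z * e * b := by rw [← e1]; group
      have h4 : e * b = z * (b * e) := by
        rw [h3]
        have : z * (z * e * b) = (z * z) * (e * b) := by group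
        rw [this, h.ln.sq z hz, one_mul]
      calc e * b * e⁻¹ * b⁻¹ = z * (b * e) * e⁻¹ * b⁻¹ := by rw [h4]
        _ = z := by group
    rw [e2] at h2
    rcases (mem_zpowers_iff_of_mul_self (h.ln.sq y s.hy)).mp h2 with e3 | e3
    · exact hz1 e3
    · exact s.hyz e3.symm

/-- `E_p = D_p` -/
theorem ee_comm (s : Set1 T V z R y B) {p q : G} (hp : p ∈ V) (hp1 : p ≠ 1) (hq : q ∈ V) (hq1 : q ≠ 1) (hqp : q ≠ p)
    {e b : G} (he : e ∈ ee V p) (hb : b ∈ ws V q) : e * b = b * e := by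
  have hz := s.one.ln.z_mem
  have hz1 := s.one.ln.z_ne
  obtain ⟨g, hg, e1, e2⟩ := s.one.fam.trans2 hp hp1 hq hq1 hqp hz hz1 s.hy s.hy1 s.hyz
  have h1 := conj_mem_ee hg he
  rw [e1] at h1
  have h2 := CaseL.conj_mem_ws g hb
  rw [e2] at h2
  have h3 := s.ee_comm_zy h1 h2
  have h4 : g * (e * b) * g⁻¹ = g * (b * e) * g⁻¹ := by
    calc g * (e * b) * g⁻¹ = g * e * g⁻¹ * (g * b * g⁻¹) := by group
      _ = g * b * g⁻¹ * (g * e * g⁻¹) := h3
      _ = g * (b * e) * g⁻¹ := by group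
  exact mul_left_cancel (mul_right_cancel h4)

/-- the subfamily: all conjugates under `N_G(V)` -/
theorem sf_conj (s : Set1 T V z R y B) {g : G} (hg : g ∈ normalizer (V : Set G)) :
    s.sf (g * z * g⁻¹) = cj g (s.sf z) := by
  rw [s.sf_z, sf, subf_eq s.le_pre hg]

theorem sf_le_z (s : Set1 T V z R y B) : s.sf z ≤ cg z := by
  rw [s.sf_z]; exact R.pre_le _

theorem ww_conj (s : Set1 T V z R y B) {g : G} (hg : g ∈ normalizer (V : Set G)) {w : G} :
    g * w * g⁻¹ ∈ ww V s.sf (g * z * g⁻¹) ↔ w ∈ ww V s.sf z := by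
  have e : ww V s.sf (g * z * g⁻¹) = cj g (ww V s.sf z) := by
    rw [ww, s.sf_conj hg, ww, cj_wf, cj_eq_of_mem_normalizer hg]
  rw [e, mem_cj]
  have : g⁻¹ * (g * w * g⁻¹) * g = w := by group
  rw [this]

theorem ww_le_z (s : Set1 T V z R y B) : ww V s.sf z ≤ ws V z := fun _ hw => (s.mem_wz.mp hw).1

theorem ww_le (s : Set1 T V z R y B) {p : G} (hp : p ∈ V) (hp1 : p ≠ 1) : ww V s.sf p ≤ ws V p := by
  obtain ⟨g, hg, rfl⟩ := s.one.ln.trans p hp hp1
  intro w hw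
  have e : w = g * (g⁻¹ * w * g) * g⁻¹ := by group
  rw [e, s.ww_conj hg] at hw
  rw [e]
  exact CaseL.conj_mem_ws g (s.ww_le_z hw)

theorem split' (s : Set1 T V z R y B) {p : G} (hp : p ∈ V) (hp1 : p ≠ 1) {w : G} (hw : w ∈ ws V p) :
    ∃ w' ∈ ww V s.sf p, w'⁻¹ * w ∈ ee V p := by
  obtain ⟨g, hg, rfl⟩ := s.one.ln.trans p hp hp1
  have h1 : g⁻¹ * w * g ∈ ws V z := by
    have := CaseL.conj_mem_ws g⁻¹ hw
    have e : g⁻¹ * (g * z * g⁻¹) * g⁻¹⁻¹ = z := by group
    rwa [e, inv_inv] at this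
  obtain ⟨w', hw', hE⟩ := s.split h1
  refine ⟨g * w' * g⁻¹, (s.ww_conj hg).mpr hw', ?_⟩
  have h2 := conj_mem_ee hg hE
  have e : g * (w'⁻¹ * (g⁻¹ * w * g)) * g⁻¹ = (g * w' * g⁻¹)⁻¹ * w := by group
  rwa [e] at h2

theorem inf_le' (s : Set1 T V z R y B) {p : G} (hp : p ∈ V) (hp1 : p ≠ 1) {w : G} (hw : w ∈ ww V s.sf p)
    (hE : w ∈ ee V p) : w ∈ V := by
  obtain ⟨g, hg, rfl⟩ := s.one.ln.trans p hp hp1
  have e : w = g * (g⁻¹ * w * g) * g⁻¹ := by group
  rw [e, s.ww_conj hg] at hw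
  have h1 : g⁻¹ * w * g ∈ ee V z := by
    have := conj_mem_ee (inv_mem hg) hE
    have e : g⁻¹ * (g * z * g⁻¹) * g⁻¹⁻¹ = z := by group
    rwa [e, inv_inv] at this
  rw [e]
  exact s.one.fam.conj_pt hg (s.inf_le hw h1)

/-- the subfamily is a family -/
theorem fam' (s : Set1 T V z R y B) : Fam T V z s.sf := by
  have h := s.one
  have hz := h.ln.z_mem
  have hz1 := h.ln.z_ne
  refine h.fam.sub s.le_pre (R.pre_le _) ?_
  obtain ⟨q, hq, hq1, hqz, a, ha, b, hb, hab⟩ := h.nc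
  obtain ⟨a', ha', hE⟩ := s.split ha
  obtain ⟨b', hb', hF⟩ := s.split' hq hq1 hb
  refine ⟨q, hq, hq1, hqz, a', by rw [← s.sf_z]; exact ha', b', hb', fun hc => hab ?_⟩
  set e := a'⁻¹ * a with he
  set f := b'⁻¹ * b with hf
  have ea : a = a' * e := by rw [he]; group
  have eb : b = b' * f := by rw [hf]; group
  have h1 : e * b' = b' * e := s.ee_comm hz hz1 hq hq1 hqz hE (s.ww_le hq hq1 hb')
  have h2 : f * a' = a' * f := s.ee_comm hq hq1 hz hz1 (Ne.symm hqz) hF (s.ww_le_z ha')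
  have h3 : e * f = f * e := s.ee_comm hz hz1 hq hq1 hqz hE hF.1
  rw [ea, eb]
  calc a' * e * (b' * f) = a' * (e * b') * f := by group
    _ = (a' * b') * (e * f) := by rw [h1]; group
    _ = b' * (a' * f) * e := by rw [hc, h3]; group
    _ = b' * (f * a') * e := by rw [h2]
    _ = b' * f * (a' * e) := by group

/-- elements of odd order of `C(W'_z)` centralise `W'_q` -/
theorem odd_z (s : Set1 T V z R y B) {b : G} (hb : b ∈ kk V s.sf z) {n : ℕ} (hn : Odd n) (h1 : b ^ n = 1) {q : G}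
    (hq : q ∈ V) (hq1 : q ≠ 1) : b ∈ kk V s.sf q := by
  have h := s.one
  have hz := h.ln.z_mem
  have hz1 := h.ln.z_ne
  have hF := s.fam'
  have hbV : b ∈ centralizer (V : Set G) := hF.kk_le_cent hb
  rw [kk, mem_centralizer_iff]
  intro w hw
  have hwq := s.ww_le hq hq1 hw
  obtain ⟨a, ha, hT⟩ := h.tw_exists hq hq1 hz hz1 hwq
  obtain ⟨a', ha', hE⟩ := s.split ha
  set e := a'⁻¹ * a with he
  have ea : a = a' * e := by rw [he]; group
  have hba' : b * a' * b⁻¹ = a' := conj_eq_of_comm (mem_centralizer_iff.mp hb a' ha').symm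
  have hbn := centralizer_le_normalizer _ hbV
  have hbz : b * z * b⁻¹ = z := conj_eq_of_comm (h.V_comm hz hbV).symm
  have hbe : b * e * b⁻¹ ∈ ee V z := by
    have := conj_mem_ee hbn hE
    rwa [hbz] at this
  have hk : b * a * b⁻¹ * a⁻¹ ∈ ee V z := by
    have e1 : b * a * b⁻¹ * a⁻¹ = b * e * b⁻¹ * e⁻¹ := by
      have hc : a' * (b * e * b⁻¹ * e⁻¹) = (b * e * b⁻¹ * e⁻¹) * a' :=
        h.ab a' (s.ww_le_z ha') _ (mul_mem hbe.1 (inv_mem hE.1))
      calc b * a * b⁻¹ * a⁻¹ = (b * a' * b⁻¹) * (b * e * b⁻¹) * e⁻¹ * a'⁻¹ := by rw [ea]; group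
        _ = a' * (b * e * b⁻¹ * e⁻¹) * a'⁻¹ := by rw [hba']; group
        _ = b * e * b⁻¹ * e⁻¹ := by rw [hc]; group
    rw [e1]
    exact mul_mem hbe (inv_mem hE)
  have hba : b * a * b⁻¹ ∈ ws V z := conj_mem_of_normalizer (h.cent_norm hz) hbV ha
  have hT2 := h.tw_cent hq hz hbV hT
  have hT3 : Tw V z (b * a * b⁻¹) z a := (h.tw_self hz hz1 hba).mpr hk
  have hT4 := h.tw_trans (h.tw_trans hT2 hT3) (h.tw_symm hT)
  have hbw : b * w * b⁻¹ ∈ ws V q := conj_mem_of_normalizer (h.cent_norm hq) hbV hwq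
  have h5 := (h.tw_self hq hq1 hbw).mp hT4
  have hbw' : b * w * b⁻¹ ∈ ww V s.sf q := conj_mem_of_normalizer (hF.cent_norm hq hq1) hbV hw
  have h6 := s.inf_le' hq hq1 (mul_mem hbw' (inv_mem hw)) h5
  set c := b * w * b⁻¹ * w⁻¹ with hc
  have h7 : b * w = w * b :=
    odd_cent (q := c) (h.V_comm h6 hbV).symm (h.ln.sq c h6) (Or.inr (by rw [hc]; group)) hn h1
  exact h7.symm

theorem odd_pq (s : Set1 T V z R y B) {b p : G} (hp : p ∈ V) (hp1 : p ≠ 1) (hb : b ∈ kk V s.sf p) {n : ℕ}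
    (hn : Odd n) (h1 : b ^ n = 1) {q : G} (hq : q ∈ V) (hq1 : q ≠ 1) : b ∈ kk V s.sf q := by
  by_cases hqp : q = p
  · rw [hqp]; exact hb
  have hF := s.fam'
  obtain ⟨g, hg, rfl⟩ := s.one.ln.trans p hp hp1
  have h2 := hF.conj_kk (inv_mem hg) hp hp1 hb
  have e : g⁻¹ * (g * z * g⁻¹) * g⁻¹⁻¹ = z := by group
  rw [e, inv_inv] at h2
  have h3 : (g⁻¹ * b * g) ^ n = 1 := by
    have := conj_pow (i := n) (a := g⁻¹) (b := b)
    rw [inv_inv] at this
    rw [this, h1]; group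
  have h4 := s.odd_z h2 hn h3 (hF.conj_pt' hg hq) (Fam.conj_ne' hq1)
  have h5 := hF.conj_kk hg (hF.conj_pt' hg hq) (Fam.conj_ne' hq1) h4
  have e1 : g * (g⁻¹ * q * g) * g⁻¹ = q := by group
  have e2 : g * (g⁻¹ * b * g) * g⁻¹ = b := by group
  rwa [e1, e2] at h5

/-- **`C(W'_z)` is a 2-group** -/
theorem kk_two (s : Set1 T V z R y B) : IsPGroup 2 (kk V s.sf z) := by
  have hF := s.fam'
  have hz := s.one.ln.z_mem
  have hz1 := s.one.ln.z_ne
  set D : Subgroup G := closure {b | b ∈ kk V s.sf z ∧ ∃ n, Odd n ∧ b ^ n = 1} with hD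
  have hnorm : ∀ N : Subgroup G, (∀ g ∈ N, ∀ b ∈ kk V s.sf z, ∀ n, Odd n → b ^ n = 1 →
      g * b * g⁻¹ ∈ kk V s.sf z) → N ≤ normalizer (D : Set G) := by
    intro N hN
    refine le_normalizer_of_forall fun g hg b hb => ?_
    refine closure_induction (p := fun b _ => g * b * g⁻¹ ∈ D) ?_ ?_ ?_ ?_ hb
    · rintro b ⟨hb, n, hn, h1⟩
      refine subset_closure ⟨hN g hg b hb n hn h1, n, hn, ?_⟩
      rw [conj_pow, h1]; group
    · simp [one_mem]
    · intro a b _ _ h1 h2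
      have e : g * (a * b) * g⁻¹ = (g * a * g⁻¹) * (g * b * g⁻¹) := by group
      rw [e]; exact mul_mem h1 h2
    · intro a _ h1
      have e : g * a⁻¹ * g⁻¹ = (g * a * g⁻¹)⁻¹ := by group
      rw [e]; exact inv_mem h1
  have hbot : D = ⊥ := by
    refine hF.eq_bot_of_norm s.hy s.hy1 s.hyz ?_ ?_ ?_
    · rw [hD, closure_le]
      rintro b ⟨hb, n, hn, h1⟩
      exact s.odd_z hb hn h1 s.hy s.hy1
    · refine hnorm _ fun g hg b hb n hn h1 => ?_
      have h2 := hF.conj_kk hg hz hz1 hb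
      exact s.odd_pq (hF.conj_pt hg hz) (Fam.conj_ne hz1) h2 hn (by rw [conj_pow, h1]; group) hz hz1
    · exact hnorm _ fun g hg b hb n hn h1 => conj_mem_of_normalizer hF.cf_norm_kk hg hb
  rintro ⟨b, hb⟩
  obtain ⟨k, m, hm, hkm⟩ := Nat.exists_eq_two_pow_mul_odd (n := orderOf b) (orderOf_pos _).ne'
  refine ⟨k, Subtype.ext ?_⟩
  change b ^ 2 ^ k = 1
  have h1 : b ^ 2 ^ k ∈ D := subset_closure ⟨pow_mem hb _, m, hm, by rw [← pow_mul, ← hkm, pow_orderOf_eq_one]⟩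
  rw [hbot] at h1
  exact mem_bot.mp h1

/-- the `W_t`, `t` over another block, centralise `W'_z` -/
theorem other_kk (s : Set1 T V z R y B) {k : H} (hk : B k ≠ B 1) {a : H} (ha : a ∈ a0 R y) :
    ∃ x ∈ kk V s.sf z, R.phi x = k * a * k⁻¹ := by
  have h := s.one
  have hz := h.ln.z_mem
  obtain ⟨c, hc, rfl⟩ := R.phi_surj k
  obtain ⟨b, hb, rfl⟩ := (h.mem_a0 R s.hy s.hy1).mp ha
  have hbc := h.ws_le_cz s.hy s.hy1 hb
  refine ⟨c * b * c⁻¹, ?_, ?_⟩
  · rw [kk, mem_centralizer_iff]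
    intro w hw
    obtain ⟨hw1, hw2⟩ := s.mem_wz.mp hw
    have hcz : c⁻¹ * z * c⁻¹⁻¹ = z := by
      rw [inv_inv]
      have := mem_centralizer_singleton_iff.mp hc
      calc c⁻¹ * z * c = c⁻¹ * (z * c) := by group
        _ = c⁻¹ * (c * z) := by rw [← this]
        _ = z := by group
    have h1 : c⁻¹ * w * c ∈ ws V z := by
      have := CaseL.conj_mem_ws c⁻¹ hw1
      rwa [hcz, inv_inv] at this
    have h2 : R.pi (c⁻¹ * w * c) = (R.phi c)⁻¹ • R.pi w := by
      have := h.rp_act R (inv_mem hc) hw1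
      rw [inv_inv] at this
      rw [← this, One.phi_inv' R hc]
    have h3 : R.pi (c⁻¹ * w * c) ∈ B (R.phi c)⁻¹ := by
      rw [h2]
      have := s.b.smul (R.phi c)⁻¹ 1 _ hw2
      rwa [mul_one] at this
    have h4 : B (R.phi c)⁻¹ ≠ B 1 := fun e => hk (by
      have := inv_mem (s.mem_st.mpr e)
      rw [inv_inv] at this
      exact this)
    have h5 := (s.al_iff h1).mp (s.b.al_other s.c s.four s.alS h4 h3)
    have h6 := s.ee_comm_zy h5 hb
    calc w * (c * b * c⁻¹) = c * ((c⁻¹ * w * c) * b) * c⁻¹ := by group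
      _ = c * (b * (c⁻¹ * w * c)) * c⁻¹ := by rw [h6]
      _ = c * b * c⁻¹ * w := by group
  · rw [R.phi_mul _ (mul_mem hc hbc) _ (inv_mem hc), R.phi_mul c hc b hbc, One.phi_inv' R hc]

/-- **one block** -/
theorem one_block (s : Set1 T V z R y B) (k : H) : B k = B 1 := by
  by_contra hk
  obtain ⟨m, hm, hn⟩ := s.b.exists_mem s.four k {0, k • R.pi y}
    (lt_of_le_of_lt (Set.ncard_insert_le _ _) (by simp))
  simp only [Set.mem_insert_iff, Set.mem_singleton_iff, not_or] at hn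
  obtain ⟨l, rfl, hl⟩ := s.b.pt k m hm hn.1
  set u := k • R.pi y with hu
  set v := l • R.pi y with hv
  have hvu : v ≠ u := hn.2
  obtain ⟨a, ha, ea⟩ := s.b.exists_fun hm hn.1 hn.2
  have hul : u ∈ B l := by rw [hl]; exact s.b.self k
  obtain ⟨a', ha', ea'⟩ := s.b.exists_fun hul (s.b.ne_self s.c k) (Ne.symm hvu)
  obtain ⟨x, hx, ex⟩ := s.other_kk hk ha
  obtain ⟨x', hx', ex'⟩ := s.other_kk (k := l) (by rw [hl]; exact hk) ha'
  set p := k * a * k⁻¹ with hp
  set p' := l * a' * l⁻¹ with hp'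
  have hpu : p • u = u := by rw [hp, hu, mul_smul, mul_smul, inv_smul_smul, s.c.fix a ha]
  have hpv : p' • v = v := by rw [hp', hv, mul_smul, mul_smul, inv_smul_smul, s.c.fix a' ha']
  have hF := s.fam'
  have hle : kk V s.sf z ≤ cg z := (hF.kk_le_qq hF.ln.z_mem hF.ln.z_ne).trans ((hF.qq_le_cf).trans s.sf_le_z)
  -- `p p'` is a 2-element
  obtain ⟨n, hn2⟩ := s.kk_two ⟨x * x', mul_mem hx hx'⟩
  have hn2' : (x * x') ^ 2 ^ n = 1 := congrArg Subtype.val hn2
  have h1 : (p * p') ^ 2 ^ n = 1 := by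
    have e1 : R.phi (x * x') = p * p' := by rw [R.phi_mul x (hle hx) x' (hle hx'), ex, ex']
    have e2 := map_pow R.hom ⟨x * x', mul_mem (hle hx) (hle hx')⟩ (2 ^ n)
    have e3 : (⟨x * x', mul_mem (hle hx) (hle hx')⟩ : cg z) ^ 2 ^ n = 1 := Subtype.ext hn2'
    rw [e3, map_one] at e2
    rw [← e1]
    exact e2.symm
  -- it has order 3 on `⟨u, v⟩`
  have h2 : ((p * p') ^ 3) • u = u := by
    have e1 : (p * p') • u = v := by
      rw [mul_smul, ea', smul_add, hpu, ea]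
      have : u + (v + u) = v + (u + u) := by abel
      rw [this, two_of_module, add_zero]
    have e2 : (p * p') • v = v + u := by rw [mul_smul, hpv, ea]
    have e4 : (p * p') ^ 3 = (p * p') * ((p * p') * (p * p')) := by rw [pow_succ, pow_two, mul_assoc]
    have e3 : (p * p') ^ 3 • u = (p * p') • (p * p') • (p * p') • u := by
      rw [e4, mul_smul (p * p') _ u, mul_smul (p * p') (p * p') u]
    rw [e3, e1, e2, smul_add, e1, e2]
    have : v + u + v = u + (v + v) := by abel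
    rw [this, two_of_module, add_zero]
  have h3 : (p * p') • u = u := by
    have hc : Nat.Coprime 3 (orderOf (p * p')) := by
      obtain ⟨j, -, hj⟩ := (Nat.dvd_prime_pow Nat.prime_two).mp (orderOf_dvd_of_pow_eq_one h1)
      rw [hj]
      exact Nat.Coprime.pow_right _ (by norm_num)
    obtain ⟨m, hm⟩ := exists_pow_eq_self_of_coprime hc
    have h4 : ∀ j : ℕ, (((p * p') ^ 3) ^ j) • u = u := by
      intro j
      induction j with
      | zero => simp
      | succ j ih => rw [pow_succ, mul_smul, h2, ih]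
    have := h4 m
    rwa [hm] at this
  have e1 : (p * p') • u = v := by
    rw [mul_smul, ea', smul_add, hpu, ea]
    have : u + (v + u) = v + (u + u) := by abel
    rw [this, two_of_module, add_zero]
  exact hvu (e1.symm.trans h3)

/-- **`|W_z| = 16`** -/
theorem card_ws (s : Set1 T V z R y B) : Nat.card (ws V z) = 16 := by
  have h := s.one
  have hz := h.ln.z_mem
  have hz1 := h.ln.z_ne
  have htop : B 1 = ⊤ := by
    rw [eq_top_iff, ← s.b.sup]
    exact iSup_le fun k => (s.one_block k).le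
  have hM : Nat.card M = 8 := by
    have h1 := s.b.card 1
    rw [htop, AddSubgroup.card_top, s.b.card_A s.c s.four s.alS] at h1
    exact h1
  let f : ws V z →* Multiplicative M :=
    { toFun := fun w => Multiplicative.ofAdd (R.pi w)
      map_one' := by
        change Multiplicative.ofAdd (R.pi 1) = 1
        rw [h.rp_one R]; rfl
      map_mul' := fun a b => by
        change Multiplicative.ofAdd (R.pi (a * b)) = _
        rw [h.rp_mul R a.2 b.2]; rfl }
  have hr : f.range = ⊤ := by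
    rw [MonoidHom.range_eq_top]
    intro m
    obtain ⟨w, hw, e⟩ := h.rp_surj R m.toAdd
    exact ⟨⟨w, hw⟩, congrArg Multiplicative.ofAdd e⟩
  have hk : f.ker = (zpowers z).subgroupOf (ws V z) := by
    ext w
    rw [MonoidHom.mem_ker, mem_subgroupOf, mem_zpowers_iff_of_mul_self (h.ln.sq z hz)]
    exact h.rp_zero R w.2
  have h2 := Subgroup.card_mul_index f.ker
  rw [Subgroup.index_ker, hr, Subgroup.card_top, hk, Nat.card_congr (subgroupOfEquivOfLe
    ((zpowers_le).mpr (h.V_le hz hz1 hz))).toEquiv, Nat.card_zpowers, orderOf_eq_prime (by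
      rw [pow_two]; exact h.ln.sq z hz) hz1] at h2
  have h3 : Nat.card (Multiplicative M) = Nat.card M := rfl
  rw [h3, hM] at h2
  omega

end Set1

end Cfsg.Agent.Omega.NO3S.TvBig

end

-- merged: Cfsg.Agent.Mrg.Omega.NO3S.TwoOne.TvBig
section

section


/-!
# NO-3S, `CompP`: the case `k ≥ 2`, `A` consists of `λ`-transvections

* `tvBigP : St1762 → TvBigP K` : `|W_z| = 16` (`TvBig.Set1.card_ws`) and the exit S1762 (helper46, `LThree.lean`).
-/

set_option autoImplicit false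

namespace Cfsg.Agent.Omega.NO3S.TwoOne

open Subgroup Cfsg Cfsg.Agent.Omega.MinPar Cfsg.Agent.Omega.Frame Cfsg.Agent.Omega.FrameNOFF
open Cfsg.Agent.ZN (zl zc o2)
open Cfsg.Agent.MinSimple.Geo (ws kq)
open Cfsg.Agent.Omega.NO3S.Fit Cfsg.Agent.Omega.NO3S.TvBig

universe u

variable {G : Type u} [Group G] {T V : Subgroup G} {z : G}

/-- `k ≥ 2` -/
theorem One.four_le [Finite G] (h : One T V z) (hk : ¬ KOne V) {M H : Type u} [AddCommGroup M] [Group H] [Finite H]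
    [DistribMulAction H M] (R : MRep V cg z M H) {y : G} (hy : y ∈ V) (hy1 : y ≠ 1) (hyz : y ≠ z) :
    4 ≤ Nat.card (a0 R y) := by
  have hz := h.ln.z_mem
  have hz1 := h.ln.z_ne
  have hc := h.loc_card R hy hy1 hyz
  have h1 : (ee V z).relIndex (ws V z) ≠ 1 := fun e => h.not_ws_le_ee hz hz1 (relIndex_eq_one.mp e)
  have h2 : (ee V z).relIndex (ws V z) ≠ 2 := fun e => hk fun p hp hp1 => by
    rw [h.relIndex_ee_ws hp hp1 hz hz1, e]
  have : Fact (Nat.Prime 2) := ⟨Nat.prime_two⟩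
  have hp : IsPGroup 2 (a0 R y) := by
    rintro ⟨a, ha⟩
    refine ⟨1, Subtype.ext ?_⟩
    change a ^ 2 ^ 1 = 1
    rw [pow_one, pow_two]
    exact h.loc_sq R hy hy1 hyz ha
  obtain ⟨n, hn⟩ := IsPGroup.iff_card.mp hp
  rw [← hc] at h1 h2
  rw [hn] at h1 h2 ⊢
  have h3 : 2 ≤ n := by
    by_contra hcon
    interval_cases n
    · exact h1 rfl
    · exact h2 rfl
  calc 4 = 2 ^ 2 := by norm_num
    _ ≤ 2 ^ n := Nat.pow_le_pow_right (by norm_num) h3

variable (K : Cls.{u})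

/-- **`k ≥ 2`, transvections** -/
theorem tvBigP (h62 : Exits.St1762.{u}) : TvBigP K := by
  intro G _ _ hK S P h z ho hC M H _ _ _ _ _ _ R hcen
  obtain ⟨y, hy, hy1, hyz⟩ := ho.ln.exists_y
  have hz := ho.ln.z_mem
  let _ : Module (ZMod 2) M := AddCommGroup.zmodModule (fun m => by rw [two_nsmul]; exact ho.rp_two R m)
  have c := tva ho hC.2 R hcen hy hy1 hyz
  have h4 := ho.four_le hC.1 R hy hy1 hyz
  obtain ⟨B, b⟩ := exists_bk c h4
  have s : Set1 (S : Subgroup G) (zl (S : Subgroup G) P) z R y B := ⟨ho, hC.2, hy, hy1, hyz, c, b, h4⟩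
  have hzc : z ∈ zc (S : Subgroup G) := by
    rw [MinSimple.VModule.mem_zc]
    exact ⟨ho.ln.V_le hz, fun t ht => mem_centralizer_singleton_iff.mp (ho.ln.T_le ht), by
      rw [pow_two]; exact ho.ln.sq z hz⟩
  refine known_of_card h ho.ln.card_V ho hzc ?_ h62
  rw [← ws_four h ho.ln.card_V hzc ho.ln.z_ne]
  exact s.card_ws

end Cfsg.Agent.Omega.NO3S.TwoOne

end

section


/-!
# NO-3S, `q = 2`, `n = 1`: the dictionary between line vectors and lines

`LnD R y l T' L q` : the line vector `l ∈ LL R y` is `R.pi q`, `q` a point of the line `L` on `z`, and the module data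
`AA`, `II`, `AL`, `C_M(A_l)` at `l` are the images of `W_q`, `ii L`, ..., `dd L z`.  `One.exists_ln` : it exists for every `l`.

Consequences (`l, m ∈ LL R y`, planes allowed, `NT V`):
* `One.in_I_symm` : `m ∈ Ī_l ↔ l ∈ Ī_m`; `One.in_D_symm` : `A_l` fixes `m` iff `A_m` fixes `l`;
* `One.in_inf` : `m ∉ Ī_l`: `A_l ∩ A_m = 1`; `One.in_comm_pair` : and they commute if `A_l` fixes `m`;
* `One.in_D_of_E` (SYM1): `A_l` fixes `m` implies `l ∈ Ē_m`;
* `D_z > I` : `One.in_E_symm` : `m ∈ Ē_l ↔ l ∈ Ē_m`; `One.in_nsix` (N6) : `m ∉ Ē_l` implies `[l, A_m] ≤ Ē_l`;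
* `One.in_fun` : every functional of `A_l` is `a ↦ [e, a]` for some `e ∈ Ē_l`;
* `One.exists_spr`, `One.in_dd_rel` : `l ∉ Ē_m`: `D̄_l = Ī_l + (D̄_l ∩ Ī_m)`.
-/

set_option autoImplicit false
set_option linter.unusedSectionVars false

namespace Cfsg.Agent.Omega.NO3S.TwoOne

open Subgroup Cfsg Cfsg.Agent.ZN Cfsg.Agent.MinSimple.Geo Cfsg.Agent.Omega.CaseL
open Cfsg.Agent.Omega.NO3S.Fit
open Cfsg.Agent.ZN.Block (conj_mem_of_normalizer conj_mem_of_normalizer' le_normalizer_of_forall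
  mem_normalizer_of)
open scoped commutatorElement

universe u

variable {G : Type u} [Group G]

/-- the dictionary at a line vector `l` -/
structure LnD {V : Subgroup G} {z : G} {M H : Type u} [AddCommGroup M] [Group H] [DistribMulAction H M]
    (R : MRep V cg z M H) (y : G) (l : M) (T' L : Subgroup G) (q : G) : Prop where
  one : One T' L z
  mem : L ∈ lines V z
  hq : q ∈ L
  q1 : q ≠ 1
  qz : q ≠ z
  pi : R.pi q = l
  A : ∀ a, a ∈ AA R y l ↔ ∃ b ∈ ws V q, R.phi b = a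
  I : ∀ w ∈ ws V z, R.pi w ∈ II R y l ↔ w ∈ ii L
  E : ∀ w ∈ ws V z, AL R y l (R.pi w) = 1 ↔ w ∈ ee L z
  al : ∀ w ∈ ws V z, ∀ b ∈ ws V q, Tw L z w q b → AL R y l (R.pi w) = R.phi b
  D : NT V → ∀ w ∈ ws V z, (∀ a ∈ AA R y l, a • R.pi w = R.pi w) ↔ w ∈ dd L z
  nt : NT V → NT L
  ws : ∀ x, ws L x = ws V x
  kq : ∀ x, kq L x = kq V x
  cj : ∃ f : G, f * z * f⁻¹ = z ∧ L = cj f V

/-- the lines of a member of the class are the lines of `V` -/
theorem lines_of_lines {V L : Subgroup G} {z : G} (hL : L ∈ lines V z) (x : G) : lines L x = lines V x := by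
  obtain ⟨⟨g, rfl⟩, -⟩ := hL
  ext K
  constructor
  · rintro ⟨⟨k, rfl⟩, hx⟩
    exact ⟨⟨k * g, by rw [cj_cj]⟩, hx⟩
  · rintro ⟨⟨k, rfl⟩, hx⟩
    refine ⟨⟨k * g⁻¹, ?_⟩, hx⟩
    rw [cj_cj, inv_mul_cancel_right]

namespace One

variable {T V : Subgroup G} {z : G} {M H : Type u} [AddCommGroup M] [Group H] [DistribMulAction H M]
  (h : One T V z) (R : MRep V cg z M H) {y : G} (hy : y ∈ V) (hy1 : y ≠ 1) (hyz : y ≠ z)
include h hy hy1 hyz

theorem AA_self [Finite G] : AA R y (R.pi y) = a0 R y := by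
  ext a
  rw [h.mem_AA R hy hy1 hyz (one_smul H _)]
  simp

theorem II_self [Finite G] : II R y (R.pi y) = i0 R := by
  ext a
  rw [h.mem_II R hy hy1 hyz (one_smul H _)]
  simp

theorem AL_pi_self [Finite G] (m : M) : AL R y (R.pi y) m = al0 R y m := by
  rw [h.AL_eq R hy hy1 hyz (one_smul H _)]
  simp

theorem pi_mem_i0 [Finite G] {w : G} (hw : w ∈ ws V z) : R.pi w ∈ i0 R ↔ w ∈ ii V := by
  rw [h.mem_i0 R]
  constructor
  · rintro ⟨u, hu, e⟩
    rcases (h.rp_eq R (ii_le h.ln.z_mem h.ln.z_ne hu) hw).mp e with e1 | e1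
    · rw [← e1]; exact hu
    · have h3 := mul_mem (inv_mem (h.V_le_ii h.ln.z_mem)) hu
      rwa [e1, inv_mul_cancel_left] at h3
  · intro hw'
    exact ⟨w, hw', rfl⟩

/-- **the dictionary** -/
theorem exists_ln [Finite G] {l : M} (hl : l ∈ LL R y) : ∃ (T' L : Subgroup G) (q : G), LnD R y l T' L q := by
  obtain ⟨T', V', q, h', R', hmem, hq, hq1, hqz, hpi, hphi, hql, hLL, hA, hI, hal, hnt, -, f, hfz, hf⟩ :=
    h.base R hy hy1 hyz hl
  have hws : ∀ x, ws V' x = ws V x := fun x => by rw [hf, ws_cj]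
  have hkq : ∀ x, kq V' x = kq V x := fun x => by rw [hf, kq_cj]
  have hl' : R'.pi q = l := by rw [hpi]; exact hql
  refine ⟨T', V', q, h', hmem, hq, hq1, hqz, hql, ?_, ?_, ?_, ?_, ?_, hnt, hws, hkq, f, hfz, hf⟩
  · intro a
    rw [← hA l hl, ← hl', h'.AA_self R' hq hq1 hqz, h'.mem_a0 R' hq hq1, hphi, hws]
  · intro w hw
    rw [← hI l hl, ← hl', h'.II_self R' hq hq1 hqz, ← hpi, h'.pi_mem_i0 R' hq hq1 hqz (by rw [hws]; exact hw)]
  · intro w hw
    rw [← hal l hl, ← hl', h'.AL_pi_self R' hq hq1 hqz, ← hpi, h'.al0_one R' hq hq1 hqz (by rw [hws]; exact hw)]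
  · intro w hw b hb ht
    rw [← hal l hl, ← hl', h'.AL_pi_self R' hq hq1 hqz, ← hpi,
      h'.al0_eq R' hq hq1 hqz (by rw [hws]; exact hw) (by rw [hws]; exact hb) ht, hphi]
  · intro hN w hw
    rw [← hA l hl, ← hl', h'.AA_self R' hq hq1 hqz, ← hpi]
    exact h'.loc_D R' hq hq1 hqz (hnt hN) (by rw [hws]; exact hw)

end One

/-! ### relations between two line vectors -/

namespace LnD

variable {T V : Subgroup G} {z : G} {M H : Type u} [AddCommGroup M] [Group H] [DistribMulAction H M]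
  {R : MRep V cg z M H} {y q r : G} {l m : M} {T₁ T₂ L K : Subgroup G}

theorem lines (a : LnD R y l T₁ L q) (b : LnD R y m T₂ K r) : K ∈ MinSimple.Geo.lines L z := by
  rw [lines_of_lines a.mem]; exact b.mem

theorem q_ws (_ : One T V z) (a : LnD R y l T₁ L q) : q ∈ MinSimple.Geo.ws V z := le_ws a.mem a.hq

/-- two elements of `W_z` -/
theorem cz (_ : One T V z) (a : LnD R y l T₁ L q) {b : G} (hb : b ∈ MinSimple.Geo.ws V q) :
    b ∈ centralizer ({z} : Set G) := a.one.ws_le_cz a.hq a.q1 (by rw [a.ws]; exact hb)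

end LnD

namespace One

variable {T V : Subgroup G} {z : G} {M H : Type u} [AddCommGroup M] [Group H] [DistribMulAction H M]
  (h : One T V z) (R : MRep V cg z M H) {y : G} (hy : y ∈ V) (hy1 : y ≠ 1) (hyz : y ≠ z)
include h hy hy1 hyz

/-- planes are symmetric -/
theorem in_I_symm [Finite G] {l m : M} (hl : l ∈ LL R y) (hm : m ∈ LL R y) (hml : m ∈ II R y l) :
    l ∈ II R y m := by
  obtain ⟨T₁, L, q, a⟩ := h.exists_ln R hy hy1 hyz hl
  obtain ⟨T₂, K, r, b⟩ := h.exists_ln R hy hy1 hyz hm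
  have hq := a.q_ws h
  have hr := b.q_ws h
  rw [← a.pi, b.I q hq]
  rw [← b.pi, a.I r hr] at hml
  exact a.one.ii_symm (a.lines b) a.hq a.q1 b.hq b.q1 b.qz hml

/-- `A_l` fixes `m` iff `A_m` fixes `l` -/
theorem in_D_symm [Finite G] (hN : NT V) {l m : M} (hl : l ∈ LL R y) (hm : m ∈ LL R y)
    (hml : ∀ a ∈ AA R y l, a • m = m) : ∀ a ∈ AA R y m, a • l = l := by
  obtain ⟨T₁, L, q, a⟩ := h.exists_ln R hy hy1 hyz hl
  obtain ⟨T₂, K, r, b⟩ := h.exists_ln R hy hy1 hyz hm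
  rw [← b.pi, a.D hN r (b.q_ws h)] at hml
  have h1 := (b.D hN q (a.q_ws h)).mpr
    ((a.one.dd_iff (a.nt hN) (a.lines b) a.hq a.q1 a.qz b.hq b.q1 b.qz).mp hml)
  rw [a.pi] at h1
  exact h1

/-- (SYM1) -/
theorem in_D_of_E [Finite G] (hN : NT V) {l m : M} (hl : l ∈ LL R y) (hm : m ∈ LL R y)
    (hml : ∀ a ∈ AA R y l, a • m = m) : AL R y m l = 1 := by
  obtain ⟨T₁, L, q, a⟩ := h.exists_ln R hy hy1 hyz hl
  obtain ⟨T₂, K, r, b⟩ := h.exists_ln R hy hy1 hyz hm
  rw [← b.pi, a.D hN r (b.q_ws h)] at hml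
  have h1 := a.one.ee_of_dd (a.nt hN) (a.lines b) a.hq a.q1 a.qz b.hq b.q1 b.qz hml
  rw [← a.pi, b.E q (a.q_ws h)]
  exact h1

/-- `A_l ∩ A_m = 1` if `l`, `m` are not coplanar -/
theorem in_inf [Finite G] (hN : NT V) {l m : M} (hl : l ∈ LL R y) (hm : m ∈ LL R y)
    (hml : m ∉ II R y l) {c : H} (hc : c ∈ AA R y l) (hc' : c ∈ AA R y m) : c = 1 := by
  obtain ⟨T₁, L, q, a⟩ := h.exists_ln R hy hy1 hyz hl
  obtain ⟨T₂, K, r, b⟩ := h.exists_ln R hy hy1 hyz hm
  obtain ⟨w, hw, rfl⟩ := (a.A c).mp hc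
  obtain ⟨w', hw', e⟩ := (b.A _).mp hc'
  have hwc := a.cz h hw
  have hwc' := b.cz h hw'
  by_contra hne
  apply hml
  rw [← b.pi, a.I r (b.q_ws h)]
  refine a.one.nt_ti_mem (a.nt hN) (a.lines b) a.hq a.q1 b.hq b.q1 b.qz (a := w) (a' := w') (by rw [a.ws]; exact hw)
    ?_ (by rw [a.ws]; exact hw') ?_
  · rw [a.kq]
    intro hk
    exact hne ((h.phi_eq_one R hwc).mpr hk)
  · rw [a.kq]
    exact (h.rp_phi R hwc hwc').mp e.symm

/-- `A_l` fixes `m`, not coplanar: `A_l`, `A_m` commute -/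
theorem in_comm_pair [Finite G] (hN : NT V) {l m : M} (hl : l ∈ LL R y) (hm : m ∈ LL R y)
    (hml : ∀ a ∈ AA R y l, a • m = m) (hml' : m ∉ II R y l) {c d : H} (hc : c ∈ AA R y l) (hd : d ∈ AA R y m) :
    c * d = d * c := by
  have hlm := h.in_D_symm R hy hy1 hyz hN hl hm hml
  -- `[c, d] ∈ A_l ∩ A_m`
  have h1 : c * d * c⁻¹ ∈ AA R y m := by
    have := h.in_A_conj R hy hy1 hyz hm (x := c) hd
    rwa [hml c hc] at this
  have h2 : d * c⁻¹ * d⁻¹ ∈ AA R y l := by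
    have := h.in_A_conj R hy hy1 hyz hl (x := d) (inv_mem hc)
    rwa [hlm d hd] at this
  have h3 : c * d * c⁻¹ * d⁻¹ ∈ AA R y m := mul_mem h1 (inv_mem hd)
  have h4 : c * d * c⁻¹ * d⁻¹ ∈ AA R y l := by
    have e : c * d * c⁻¹ * d⁻¹ = c * (d * c⁻¹ * d⁻¹) := by group
    rw [e]; exact mul_mem hc h2
  have h5 := h.in_inf R hy hy1 hyz hN hl hm hml' h4 h3
  calc c * d = (c * d * c⁻¹ * d⁻¹) * (d * c) := by group
    _ = d * c := by rw [h5, one_mul]

/-- `D_z > I` at one line gives an element at every line -/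
theorem exists_dd_of [Finite G] (hD : ¬ dd V z ≤ ii V) {L : Subgroup G} (hL : L ∈ lines V z) {q : G} (hq : q ∈ L)
    (hq1 : q ≠ 1) : ∃ d ∈ dd L q, d ∉ ii L := by
  obtain ⟨c, hc, hcI⟩ := SetLike.not_le_iff_exists.mp hD
  -- to the point `y`
  obtain ⟨g, hg, hgz⟩ := h.xl_trans h.ln.z_mem h.ln.z_ne hy hy1
  have hgn := h.xl_le_normalizer hg
  have h1 := conj_mem_dd hgn hc
  rw [hgz] at h1
  have h2 : g * c * g⁻¹ ∉ ii V := fun e => hcI (by
    have := conj_mem_of_normalizer' (normalizer_le_normalizer_ii V) hgn e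
    have e' : g⁻¹ * (g * c * g⁻¹) * g = c := by group
    rwa [e'] at this)
  exact h.exists_dd_line hL h1 hy hy1 h2 hq hq1

/-- `D_z > I` : `m ∈ Ē_l ↔ l ∈ Ē_m` -/
theorem in_E_symm [Finite G] (hN : NT V) (hD : ¬ dd V z ≤ ii V) {l m : M} (hl : l ∈ LL R y) (hm : m ∈ LL R y)
    (hml : AL R y l m = 1) : AL R y m l = 1 := by
  obtain ⟨T₁, L, q, a⟩ := h.exists_ln R hy hy1 hyz hl
  obtain ⟨T₂, K, r, b⟩ := h.exists_ln R hy hy1 hyz hm
  obtain ⟨d, hd, hdI⟩ := h.exists_dd_of hy hy1 hyz hD a.mem a.hq a.q1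
  rw [← b.pi, a.E r (b.q_ws h)] at hml
  rw [← a.pi, b.E q (a.q_ws h)]
  exact (a.one.ee_iff (a.nt hN) (a.lines b) a.hq a.q1 a.qz b.hq b.q1 b.qz hd hdI).mp hml

/-- **(N6)** : `D_z > I`, `m ∉ Ē_l` : `[l, A_m] ≤ Ē_l` -/
theorem in_nsix [Finite G] (hN : NT V) (hD : ¬ dd V z ≤ ii V) {l m : M} (hl : l ∈ LL R y) (hm : m ∈ LL R y)
    (hml : AL R y l m ≠ 1) {c : H} (hc : c ∈ AA R y m) : AL R y l (c • l + l) = 1 := by
  obtain ⟨T₁, L, q, a⟩ := h.exists_ln R hy hy1 hyz hl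
  obtain ⟨T₂, K, r, b⟩ := h.exists_ln R hy hy1 hyz hm
  obtain ⟨d, hd, hdI⟩ := h.exists_dd_of hy hy1 hyz hD a.mem a.hq a.q1
  obtain ⟨w, hw, rfl⟩ := (b.A c).mp hc
  rw [← b.pi, ne_eq, a.E r (b.q_ws h)] at hml
  have hq := a.q_ws h
  have hwq : w * q * w⁻¹ ∈ ws V z := by
    have := conj_mem_ws w hq
    rwa [conj_eq_of_comm (mem_centralizer_singleton_iff.mp (b.cz h hw))] at this
  have h1 := a.one.nsix_nt (a.nt hN) (a.lines b) a.hq a.q1 a.qz b.hq b.q1 b.qz hd hdI hml (w := w)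
    (by rw [a.ws]; exact hw)
  rw [← a.pi, h.rp_comm R (b.cz h hw) hq hwq, a.pi, a.E _ (mul_mem hwq (inv_mem hq))]
  exact h1

/-- every functional of `A_l` is `a ↦ [e, a]`, `e ∈ Ē_l` -/
theorem in_fun [Finite G] (hN : NT V) {l : M} (hl : l ∈ LL R y) {X : Subgroup H}
    (h2 : X.relIndex (AA R y l) = 2) : ∃ e : M, AL R y l e = 1 ∧ ∀ a ∈ AA R y l, a • e = e ↔ a ∈ X := by
  obtain ⟨T₁, L, q, a⟩ := h.exists_ln R hy hy1 hyz hl
  have hz1 := h.ln.z_ne
  have hLz := a.one.ln.z_mem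
  -- the preimage of `X` in `W_q`
  have hle : ws V q ≤ cg z := fun b hb => a.cz h hb
  let f : ws V q →* H := (R.hom).comp (Subgroup.inclusion hle)
  have hf : ∀ b : ws V q, f b = R.phi b := fun b => rfl
  let X' : Subgroup G := (X.comap f).map (ws V q).subtype
  have hX' : ∀ b, b ∈ X' ↔ b ∈ ws V q ∧ R.phi b ∈ X := by
    intro b
    constructor
    · rintro ⟨b, hb, rfl⟩
      exact ⟨b.2, hb⟩
    · rintro ⟨hb, hb'⟩
      exact ⟨⟨b, hb⟩, hb', rfl⟩
  have hXw : X' ≤ ws V q := fun b hb => ((hX' b).mp hb).1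
  have hidx : X'.relIndex (ws V q) = 2 := by
    have e1 : X'.subgroupOf (ws V q) = X.comap f := by
      ext b
      rw [mem_subgroupOf, hX', mem_comap]
      exact ⟨fun hb => hb.2, fun hb => ⟨b.2, hb⟩⟩
    have e2 : f.range = AA R y l := by
      ext x
      rw [a.A, MonoidHom.mem_range]
      constructor
      · rintro ⟨b, rfl⟩
        exact ⟨b, b.2, rfl⟩
      · rintro ⟨b, hb, rfl⟩
        exact ⟨⟨b, hb⟩, rfl⟩
    change (X'.subgroupOf (ws V q)).index = 2
    rw [e1, index_comap, e2]; exact h2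
  have hE : ee L q ≤ X' := by
    intro b hb
    have hbq : b ∈ ws V q := by rw [← a.ws]; exact hb.1
    rw [hX']
    refine ⟨hbq, ?_⟩
    have hk := hb.2 z hLz hz1
    rw [a.kq] at hk
    rw [(h.phi_eq_one R (a.cz h hbq)).mpr hk]
    exact one_mem X
  obtain ⟨e, he, heX⟩ := a.one.nt_fun_ee (a.nt hN) hLz hz1 a.hq a.q1 a.qz hE (by rw [a.ws]; exact hXw)
    (by rw [a.ws]; exact hidx)
  have hez : e ∈ ws V z := by
    have := he.1
    rwa [a.ws] at this
  refine ⟨R.pi e, (a.E e hez).mpr he, ?_⟩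
  intro c hc
  obtain ⟨b, hb, rfl⟩ := (a.A c).mp hc
  have hbL : b ∈ ws L q := by rw [a.ws]; exact hb
  have hbe : b * e * b⁻¹ ∈ ws V z := by
    have := conj_mem_ws b hez
    rwa [conj_eq_of_comm (mem_centralizer_singleton_iff.mp (a.cz h hb))] at this
  have h3 := heX b hbL
  rw [hX'] at h3
  have h4 : R.phi b • R.pi e = R.pi e ↔ e * b = b * e := by
    rw [h.rp_act R (a.cz h hb) hez, h.rp_eq R hbe hez]
    constructor
    · rintro (e1 | e1)
      · exact (comm_of_conj_eq e1).symm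
      · exfalso
        -- `[b, e] = z ∈ ⟨q⟩`
        rcases a.one.ee_cases a.hq a.q1 he hbL with e2 | e2
        · rw [commutatorElement_eq_one_iff_mul_comm] at e2
          rw [conj_eq_of_comm e2.symm] at e1
          exact hz1 (by simpa using e1.symm)
        · have e3 : ⁅b, e⁆ = q := by
            rw [a.one.comm_swap hLz hz1 a.hq a.q1 (by rw [a.ws]; exact hez) hbL]; exact e2
          have e4 : b * e * b⁻¹ = q * e := by
            calc b * e * b⁻¹ = ⁅b, e⁆ * e := by rw [commutatorElement_def]; group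
              _ = q * e := by rw [e3]
          rw [e4] at e1
          exact a.qz (mul_right_cancel e1)
    · intro e1
      left
      exact conj_eq_of_comm e1.symm
  rw [h4, h3]
  exact ⟨fun hx => hx.2, fun hx => ⟨hb, hx⟩⟩

/-- an asymmetric pair of lines is an `Spr` -/
theorem exists_spr [Finite G] {L K : Subgroup G} {q r : G} (hK : K ∈ lines L z) (hq : q ∈ L)
    (hq1 : q ≠ 1) (hqz : q ≠ z) (hr : r ∈ K) (hr1 : r ≠ 1) (hrz : r ≠ z) {T₁ : Subgroup G} (hL : One T₁ L z)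
    (hNL : NT L) (hlm : q ∉ ee K z) : ∃ e g, Spr L K z q r e g := by
  have hz := hL.ln.z_mem
  have hz1 := hL.ln.z_ne
  obtain ⟨-, -, T', h'⟩ := hL.of_line hK hz1
  have hzK := h'.ln.z_mem
  have hNK : NT K := hNL.of_lines hK
  have hqw : q ∈ ws K z := by
    rw [One.ws_line hK]; exact hL.V_le hz hz1 hq
  obtain ⟨e, he, hey⟩ := h'.nt_move_ee hNK hr hr1 hzK hz1 (Ne.symm hrz) hqw hlm
  have hrw : r ∈ ws L z := le_ws hK hr
  have hrD : r ∉ dd L z := fun hd => hlm (hL.ee_of_dd hNL hK hq hq1 hqz hr hr1 hrz hd)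
  obtain ⟨g, hg, -, hgr⟩ := hL.nt_move_dd hNL hz hz1 hrw hrD
  exact ⟨e, g, hK, hq, hq1, hqz, hr, hr1, hrz, he, hey, fun p hp hp1 c hc => dd_comm_fl hc hg, hgr⟩

/-- **(1.2)** : `l ∉ Ē_m` : `D̄_l = Ī_l + (D̄_l ∩ Ī_m)` -/
theorem in_dd_rel [Finite G] (hN : NT V) {l m : M} (hl : l ∈ LL R y) (hm : m ∈ LL R y)
    (hlm : AL R y m l ≠ 1) {d : M} (hd : ∀ a ∈ AA R y l, a • d = d) :
    ∃ i ∈ II R y l, ∃ j ∈ II R y m, (∀ a ∈ AA R y l, a • j = j) ∧ d = i + j := by
  obtain ⟨T₁, L, q, a⟩ := h.exists_ln R hy hy1 hyz hl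
  obtain ⟨T₂, K, r, b⟩ := h.exists_ln R hy hy1 hyz hm
  rw [← a.pi, ne_eq, b.E q (a.q_ws h)] at hlm
  obtain ⟨e, g, S⟩ := h.exists_spr hy hy1 hyz (a.lines b) a.hq a.q1 a.qz b.hq b.q1 b.qz a.one (a.nt hN) hlm
  obtain ⟨w, hw, rfl⟩ := h.rp_surj R d
  obtain ⟨i, hi, j, hj, hjd, e1⟩ := S.exists_mul a.one ((a.D hN w hw).mp hd)
  have hiw : i ∈ ws V z := by
    rw [← a.ws]; exact ii_le a.one.ln.z_mem a.one.ln.z_ne hi
  have hjw : j ∈ ws V z := by
    rw [← a.ws]; exact hjd.1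
  refine ⟨R.pi i, (a.I i hiw).mpr hi, R.pi j, (b.I j hjw).mpr hj, (a.D hN j hjw).mpr hjd, ?_⟩
  rw [e1, h.rp_mul R hiw hjw]

end One

end Cfsg.Agent.Omega.NO3S.TwoOne

end

section


/-!
# NO-3S, `q = 2`, `n = 1`: planes and odd elements, in the language of the module

`h : One T V z`, `R : MRep V cg z M H`, `hN : NT V`, `y ∈ V`, `y ≠ 1, z`, `l, m ∈ LL R y` (planes allowed):

* `One.in_sum` : `m ∈ Ī_l`, `m ≠ l` : `l + m` is a line vector;
* `One.in_tri` : `a ∈ A_l ∩ A_m`, `a ∈ A_{l+m}` if `m ∈ Ī_l`;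
* `One.in_plane` : `l ≠ m`, `1 ≠ a ∈ A_l ∩ A_m` : `l + m ∈ LL R y` and `a ∈ A_{l+m}`;
* `One.in_inj` : `A_l = A_m → l = m`;
* `One.in_o2` : `O₂(H) = 1`;
* `One.in_bs` : every `a ∈ A_l`, `a ≠ 1`, inverts some `o ≠ 1` of odd order.
-/

set_option autoImplicit false
set_option linter.unusedSectionVars false

namespace Cfsg.Agent.Omega.NO3S.TwoOne

open Subgroup Cfsg Cfsg.Agent.ZN Cfsg.Agent.MinSimple.Geo Cfsg.Agent.Omega.CaseL
open Cfsg.Agent.Omega.NO3S.Fit
open Cfsg.Agent.ZN.Block (conj_mem_of_normalizer conj_mem_of_normalizer' le_normalizer_of_forall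
  mem_normalizer_of)
open scoped commutatorElement

universe u

variable {G : Type u} [Group G]

namespace One

variable {T V : Subgroup G} {z : G} {M H : Type u} [AddCommGroup M] [Group H] [DistribMulAction H M]
  (h : One T V z) (R : MRep V cg z M H) {y : G} (hy : y ∈ V) (hy1 : y ≠ 1) (hyz : y ≠ z)
include h hy hy1 hyz

/-- in a plane: some `c ∈ C_H(A_l)` fixes `l` and maps `m` to `l + m` -/
theorem exists_kt [Finite G] {l m : M} (hl : l ∈ LL R y) (hm : m ∈ LL R y) (hml : m ∈ II R y l) (hne : m ≠ l) :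
    ∃ c : H, c • l = l ∧ c • m = l + m ∧ ∀ a ∈ AA R y l, c * a = a * c := by
  obtain ⟨c, h1, h2, h3, -⟩ := h.in_Kt R hy hy1 hyz hl hml (h.in_ne R hy hy1 hyz hm) hne
  exact ⟨c, h1, by rw [h2, add_comm], h3⟩

/-- in a plane the sum is a line vector -/
theorem in_sum [Finite G] {l m : M} (hl : l ∈ LL R y) (hm : m ∈ LL R y) (hml : m ∈ II R y l) (hne : m ≠ l) :
    l + m ∈ LL R y := by
  obtain ⟨c, -, h2, -⟩ := h.exists_kt R hy hy1 hyz hl hm hml hne
  rw [← h2]
  exact smul_mem_LL R y c hm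

/-- (N3) -/
theorem in_tri [Finite G] {l m : M} (hl : l ∈ LL R y) (hm : m ∈ LL R y) (hml : m ∈ II R y l) (hne : m ≠ l) {a : H}
    (ha : a ∈ AA R y l) (ha' : a ∈ AA R y m) : a ∈ AA R y (l + m) := by
  obtain ⟨c, -, h2, h3⟩ := h.exists_kt R hy hy1 hyz hl hm hml hne
  have h4 := h.in_A_conj R hy hy1 hyz hm (x := c) ha'
  rwa [h3 a ha, mul_inv_cancel_right, h2] at h4

/-- (0.1) of #19417 -/
theorem in_plane [Finite G] (hN : NT V) {l m : M} (hl : l ∈ LL R y) (hm : m ∈ LL R y) (hne : l ≠ m) {a : H}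
    (ha1 : a ≠ 1) (ha : a ∈ AA R y l) (ha' : a ∈ AA R y m) : l + m ∈ LL R y ∧ a ∈ AA R y (l + m) := by
  have hml : m ∈ II R y l := by
    by_contra hml
    exact ha1 (h.in_inf R hy hy1 hyz hN hl hm hml ha ha')
  exact ⟨h.in_sum R hy hy1 hyz hl hm hml (Ne.symm hne), h.in_tri R hy hy1 hyz hl hm hml (Ne.symm hne) ha ha'⟩

/-- THEOREM P: `A_l` determines `l` -/
theorem in_inj [Finite G] {l m : M} (hl : l ∈ LL R y) (hm : m ∈ LL R y) (he : AA R y l = AA R y m) : l = m := by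
  obtain ⟨x, hx⟩ := trans_LL R y hl hm
  have h1 : x • l = l := h.in_norm R hy hy1 hyz hl fun a ha => by
    have h2 := h.in_A_conj R hy hy1 hyz hl (x := x) ha
    rwa [hx, ← he] at h2
  rw [← h1, hx]

include R in
omit hy hy1 hyz in
/-- `O₂(H) = 1` -/
theorem in_o2 [Finite G] {N : Subgroup H} (hN : N.Normal) (h2 : IsPGroup 2 N) : N = ⊥ := by
  rw [eq_bot_iff]
  intro x hx
  obtain ⟨c, hc, rfl⟩ := R.phi_surj x
  have hcg : ∀ c, c ∈ cg z ↔ c ∈ centralizer ({z} : Set G) := fun c => Iff.rfl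
  let P : Subgroup G :=
    { carrier := {c | c ∈ centralizer ({z} : Set G) ∧ R.phi c ∈ N}
      mul_mem' := fun {a b} ha hb => ⟨mul_mem ha.1 hb.1, by
        rw [R.phi_mul a ha.1 b hb.1]; exact mul_mem ha.2 hb.2⟩
      one_mem' := ⟨one_mem _, by
        have := (R.phi_ker 1 (one_mem _)).mpr (one_mem _)
        rw [this]; exact one_mem N⟩
      inv_mem' := fun {a} ha => ⟨inv_mem ha.1, by
        have h1 : R.phi a⁻¹ * R.phi a = 1 := by
          rw [← R.phi_mul a⁻¹ (inv_mem ha.1) a ha.1, inv_mul_cancel]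
          exact (R.phi_ker 1 (one_mem _)).mpr (one_mem _)
        rw [eq_inv_of_mul_eq_one_left h1]
        exact inv_mem ha.2⟩ }
  have hle : P ≤ kq V z := by
    refine h.le_kq (fun c hc => hc.1) (le_normalizer_of_forall fun d hd c hc => ⟨?_, ?_⟩) fun c hc => ?_
    · exact mul_mem (mul_mem hd hc.1) (inv_mem hd)
    · have hdi : R.phi d⁻¹ = (R.phi d)⁻¹ := by
        refine eq_inv_of_mul_eq_one_left ?_
        rw [← R.phi_mul d⁻¹ (inv_mem hd) d hd, inv_mul_cancel]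
        exact (R.phi_ker 1 (one_mem _)).mpr (one_mem _)
      rw [R.phi_mul _ (mul_mem hd hc.1) _ (inv_mem hd), R.phi_mul d hd c hc.1, hdi]
      exact hN.conj_mem _ hc.2 _
    · obtain ⟨n, hn⟩ := h2 ⟨R.phi c, hc.2⟩
      refine ⟨n, ?_⟩
      have hpow : ∀ k : ℕ, R.phi (c ^ k) = R.phi c ^ k := by
        intro k
        induction k with
        | zero =>
          rw [pow_zero, pow_zero]
          exact (R.phi_ker 1 (one_mem _)).mpr (one_mem _)
        | succ k ih => rw [pow_succ, pow_succ, R.phi_mul _ (pow_mem hc.1 k) c hc.1, ih]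
      rw [← h.phi_eq_one R (pow_mem hc.1 _), hpow]
      exact congrArg Subtype.val hn
  rw [mem_bot]
  exact (h.phi_eq_one R hc).mpr (hle ⟨hc, hx⟩)

/-- Baer–Suzuki: every `a ∈ A_l#` inverts some `o ≠ 1` of odd order -/
theorem in_bs [Finite G] [Finite H] {l : M} (hl : l ∈ LL R y) {a : H} (ha : a ∈ AA R y l) (ha1 : a ≠ 1) :
    ∃ o : H, o ≠ 1 ∧ Odd (orderOf o) ∧ a * o * a⁻¹ = o⁻¹ := by
  refine Involutions.BaerSuzuki.exists_odd_inverted a (h.in_sq R hy hy1 hyz hl ha) fun h2 => ha1 ?_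
  have h3 := h.in_o2 R (N := normalClosure {a}) normalClosure_normal h2
  have h4 : a ∈ normalClosure ({a} : Set H) := subset_normalClosure (Set.mem_singleton a)
  rwa [h3, mem_bot] at h4

end One

end Cfsg.Agent.Omega.NO3S.TwoOne

end

section


/-!
# NO-3S, `q = 2`, `n = 1`, `k ≥ 2`: far pairs

* `One.four_of_not_kOne` : `¬ KOne V` : `4 ≤ |W_z : E_z|`;
* `One.in_four` : `4 ≤ |A_l|`;
* `One.exists_far` : for `l ∈ LL R y` some `m ∈ LL R y` with `AL R y l m ≠ 1`.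
-/

set_option autoImplicit false
set_option linter.unusedSectionVars false

namespace Cfsg.Agent.Omega.NO3S.TwoOne

open Subgroup Cfsg Cfsg.Agent.ZN Cfsg.Agent.MinSimple.Geo Cfsg.Agent.Omega.CaseL
open Cfsg.Agent.Omega.NO3S.Fit
open scoped commutatorElement

universe u

variable {G : Type u} [Group G]

namespace One

variable {T V : Subgroup G} {z : G}

/-- `k ≥ 2` -/
theorem four_of_not_kOne [Finite G] (h : One T V z) (hk : ¬ KOne V) :
    4 ≤ (ee V z).relIndex (ws V z) := by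
  have hfact : Fact (Nat.Prime 2) := ⟨Nat.prime_two⟩
  have hz := h.ln.z_mem
  have hz1 := h.ln.z_ne
  have h1 : (ee V z).relIndex (ws V z) ≠ 2 := fun e => hk fun p hp hp1 => by
    rw [h.relIndex_ee_ws hp hp1 hz hz1, e]
  have h2 : (ee V z).relIndex (ws V z) ≠ 1 := fun e => by
    exact h.not_ws_le_ee hz hz1 (relIndex_eq_one.mp e)
  have hP : IsPGroup 2 (ws V z) := fun x => ⟨1, by
    have := h.sq hz hz1 x x.2
    ext
    rw [pow_one, pow_two]
    exact this⟩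
  obtain ⟨n, hn⟩ := IsPGroup.iff_card.mp hP
  have h3 : (ee V z).relIndex (ws V z) ∣ 2 ^ n := hn ▸ relIndex_dvd_card _ _
  obtain ⟨k, -, hk'⟩ := (Nat.dvd_prime_pow Nat.prime_two).mp h3
  rw [hk'] at h1 h2 ⊢
  have h4 : 2 ≤ k := by
    rcases k with _ | _ | k
    · exact absurd rfl h2
    · exact absurd rfl h1
    · omega
  calc 4 = 2 ^ 2 := by norm_num
    _ ≤ 2 ^ k := Nat.pow_le_pow_right (by norm_num) h4

variable {M H : Type u} [AddCommGroup M] [Group H] [DistribMulAction H M]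
  (h : One T V z) (R : MRep V cg z M H) {y : G} (hy : y ∈ V) (hy1 : y ≠ 1) (hyz : y ≠ z)
include h hy hy1 hyz

/-- `k ≥ 2` -/
theorem in_four [Finite G] (h4 : 4 ≤ (ee V z).relIndex (ws V z)) {l : M} (hl : l ∈ LL R y) :
    4 ≤ Nat.card (AA R y l) := by
  rw [h.in_card R hy hy1 hyz hl]; exact h4

/-- there are line vectors outside of `Ē_l` -/
theorem exists_far [Finite G] (h4 : 4 ≤ (ee V z).relIndex (ws V z)) {l : M} (hl : l ∈ LL R y) :
    ∃ m ∈ LL R y, AL R y l m ≠ 1 := by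
  by_contra hcon
  push Not at hcon
  have h0 : AL R y l 0 = 1 := by
    have := h.in_al_add R hy hy1 hyz hl 0 0
    rw [add_zero] at this
    simpa using this
  have h1 : ∀ m : M, AL R y l m = 1 := by
    intro m
    have hm : m ∈ AddSubgroup.closure (LL R y) := by
      rw [h.in_gen R hy hy1 hyz]; exact AddSubgroup.mem_top m
    induction hm using AddSubgroup.closure_induction with
    | mem x hx => exact hcon x hx
    | zero => exact h0
    | add a b _ _ ha hb => rw [h.in_al_add R hy hy1 hyz hl, ha, hb, one_mul]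
    | neg a _ ha =>
      rw [h.rp_neg R]; exact ha
  have h2 : AA R y l = ⊥ := by
    rw [eq_bot_iff]
    intro a ha
    obtain ⟨m, hm⟩ := h.in_al_surj R hy hy1 hyz hl ha
    rw [mem_bot, ← hm]; exact h1 m
  have h3 := h.in_four R hy hy1 hyz h4 hl
  rw [h2] at h3
  simp at h3

end One

end Cfsg.Agent.Omega.NO3S.TwoOne

end

section


/-!
# NO-3S, `q = 2`, `n = 1`, no `λ`-transvections: (S1), (S3) on the module `M`, and `SIGMA_k` (#18607, #19417 (0.3), (0.4))

`h : One T V z`, `hN : NT V`, `R : MRep V cg z M H`, `y ∈ V`, `y ≠ 1, z`; `l, m ∈ LL R y` with `AL R y l m ≠ 1`,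
`AL R y m l ≠ 1` (an S-pair).

* `One.in_s1` : `AL l e = 1`, `AL l m • e = e`: some `j ∈ II m`, `AL l j = 1`, has on `AA l` the functional of `e`;
* `One.in_s3w`, `One.in_s3` : if `AL m (a m + m) ≠ 1` for some `a ∈ AA l` then this holds for all `e`, `AL l e = 1`;
* `One.sk` : `SK (LL R y) (AA R y) (II R y) (AL R y)` if `4 ≤ |A|`;
* `One.in_sigma` : `SIGMA_k`.
-/

set_option autoImplicit false
set_option linter.unusedSectionVars false

namespace Cfsg.Agent.Omega.NO3S.TwoOne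

open Subgroup Cfsg Cfsg.Agent.ZN Cfsg.Agent.MinSimple.Geo Cfsg.Agent.Omega.CaseL
open Cfsg.Agent.Omega.NO3S.Fit
open Cfsg.Agent.ZN.Block (conj_mem_of_normalizer conj_mem_of_normalizer' le_normalizer_of_forall
  mem_normalizer_of)
open scoped commutatorElement

universe u

variable {G : Type u} [Group G]

theorem sig_ii_cj {V : Subgroup G} {g w : G} : w ∈ ii (cj g V) ↔ g⁻¹ * w * g ∈ ii V := by
  constructor
  · intro hw p hp hp1
    have h1 := hw _ (conj_mem_cj (g := g) hp) (fun e => hp1 (conj_eq_one_iff.mp e))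
    rw [ws_cj] at h1
    have h2 := conj_mem_ws g⁻¹ h1
    have e1 : g⁻¹ * (g * p * g⁻¹) * g⁻¹⁻¹ = p := by group
    rwa [e1, inv_inv] at h2
  · intro hw p hp hp1
    have h1 := hw _ (mem_cj.mp hp) (conj_ne_one hp1)
    have h2 := conj_mem_ws g h1
    rw [ws_cj]
    have e1 : g * (g⁻¹ * w * g) * g⁻¹ = w := by group
    have e2 : g * (g⁻¹ * p * g) * g⁻¹ = p := by group
    rwa [e1, e2] at h2

theorem sig_ee_cj {V : Subgroup G} {g w p : G} : w ∈ ee (cj g V) (g * p * g⁻¹) ↔ g⁻¹ * w * g ∈ ee V p := by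
  constructor
  · intro hw
    have h1 := conj_mem_ee' g⁻¹ hw
    have e1 : cj g⁻¹ (cj g V) = V := by rw [cj_cj, inv_mul_cancel, cj_one]
    have e2 : g⁻¹ * (g * p * g⁻¹) * g⁻¹⁻¹ = p := by group
    rwa [e1, e2, inv_inv] at h1
  · intro hw
    have h1 := conj_mem_ee' g hw
    have e1 : g * (g⁻¹ * w * g) * g⁻¹ = w := by group
    rwa [e1] at h1

namespace One

/-- for `w ∈ E_z` some `e ∈ E_y` acts on `W_z` as `w` on `W_y` -/
theorem ee_swap {T V : Subgroup G} {z y w : G} (h : One T V z) (hy : y ∈ V) (hy1 : y ≠ 1) (hyz : y ≠ z)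
    (hw : w ∈ ee V z) : ∃ e ∈ ee V y, ∀ a ∈ ws V z, ∀ b ∈ ws V y, Tw V z a y b → (e * a = a * e ↔ w * b = b * w) := by
  have hz := h.ln.z_mem
  have hz1 := h.ln.z_ne
  have hs : z * y ∈ V := mul_mem hz hy
  have hs1 : z * y ≠ 1 := h.mul_ne_one hy (Ne.symm hyz)
  have hzs : z ≠ z * y := fun e => hy1 (by simpa using e.symm)
  have hys : y ≠ z * y := fun e => hz1 (by simpa using e.symm)
  obtain ⟨t, ht, htV, htz⟩ := h.exists_move hs hs1 hz hz1 hzs
  have hzy := h.ln.comm hz hy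
  have htz' : t * z * t⁻¹ = y := by rw [htz, hzy, mul_assoc, h.ln.zz, mul_one]
  have hty : t * y * t⁻¹ = z := by
    rw [h.move hs hs1 hy hy1 hys ht htV, mul_assoc, h.ln.sq y hy, mul_one]
  have htx : t ∈ xl V := kq_le_xl hs hs1 ht
  have htn := h.xl_le_normalizer htx
  have he : t * w * t⁻¹ ∈ ee V y := by
    have := conj_mem_ee htn hw
    rwa [htz'] at this
  refine ⟨_, he, fun a ha b hb htw => ?_⟩
  -- `t⁻¹ a t` is a twin of `a` in `W_y`
  have e0 : t⁻¹ * z * t⁻¹⁻¹ = y := by rw [← hty]; group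
  have h1 := h.tw_conj (inv_mem htx) z a
  rw [e0] at h1
  have hb' : t⁻¹ * a * t⁻¹⁻¹ ∈ ws V y := by
    have := conj_mem_ws t⁻¹ ha
    rwa [e0] at this
  have h2 : Tw V y b y (t⁻¹ * a * t⁻¹⁻¹) := h.tw_trans (h.tw_symm htw) h1
  have h3 := (h.tw_self hy hy1 hb).mp h2
  have h4 := h.ee_comm hz hz1 hy hy1 hw h3
  rw [inv_inv] at h3 h4
  obtain ⟨c, hc⟩ : ∃ c, c = t⁻¹ * a * t := ⟨_, rfl⟩
  rw [← hc] at h3 h4
  have h5 : t * w * t⁻¹ * a = a * (t * w * t⁻¹) ↔ w * c = c * w := by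
    rw [hc]
    constructor
    · intro e
      calc w * (t⁻¹ * a * t) = t⁻¹ * (t * w * t⁻¹ * a) * t := by group
        _ = t⁻¹ * (a * (t * w * t⁻¹)) * t := by rw [e]
        _ = t⁻¹ * a * t * w := by group
    · intro e
      calc t * w * t⁻¹ * a = t * (w * (t⁻¹ * a * t)) * t⁻¹ := by group
        _ = t * (t⁻¹ * a * t * w) * t⁻¹ := by rw [e]
        _ = a * (t * w * t⁻¹) := by group
  rw [h5]
  constructor
  · intro e
    have e1 : b = (b * c⁻¹) * c := by group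
    rw [e1]
    exact comm_mul_of h4 e
  · intro e
    have e1 : c = (b * c⁻¹)⁻¹ * b := by group
    rw [e1]
    exact comm_mul_of (comm_inv_of h4) e

variable {T V : Subgroup G} {z : G} {M H : Type u} [AddCommGroup M] [Group H] [DistribMulAction H M]
  (h : One T V z) (R : MRep V cg z M H) {y : G} (hy : y ∈ V) (hy1 : y ≠ 1) (hyz : y ≠ z)
include h hy hy1 hyz

/-- the action of `b ∈ W_y` on `Ē` -/
theorem rp_ee [Finite G] {w b : G} (hw : w ∈ ee V z) (hb : b ∈ ws V y) :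
    (w * b = b * w → R.phi b • R.pi w = R.pi w) ∧ (w * b ≠ b * w → R.phi b • R.pi w = R.pi w + R.pi y) := by
  have hz := h.ln.z_mem
  have hz1 := h.ln.z_ne
  have hyW := h.V_le hz hz1 hy
  have hbc := h.ws_le_cz hy hy1 hb
  rw [h.rp_act R hbc hw.1]
  constructor
  · intro e
    rw [conj_eq_of_comm e.symm]
  · intro e
    have h2 := h.ee_cases hy hy1 hw hb
    have h3 : ⁅w, b⁆ = y := h2.resolve_left fun e' => e (commutatorElement_eq_one_iff_mul_comm.mp e')
    rw [← h.comm_swap hz hz1 hy hy1 hw.1 hb] at h3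
    have hbw : b * w * b⁻¹ = ⁅b, w⁆ * w := by rw [commutatorElement_def]; group
    rw [hbw, h3, h.rp_mul R hyW hw.1, add_comm]

theorem rp_ee_iff [Finite G] {w b : G} (hw : w ∈ ee V z) (hb : b ∈ ws V y) :
    R.phi b • R.pi w = R.pi w ↔ w * b = b * w := by
  obtain ⟨h1, h2⟩ := h.rp_ee R hy hy1 hyz hw hb
  refine ⟨fun e => ?_, h1⟩
  by_contra hcon
  rw [h2 hcon] at e
  exact R.v0_ne h.fam hy hy1 hyz (add_eq_left.mp e)

/-- the S-pair of lines of `v₀` and `φ(f) v₀` -/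
theorem syp [Finite G] {f : G} (hf : f ∈ centralizer ({z} : Set G)) (h1 : al0 R y (R.phi f • R.pi y) ≠ 1)
    (h2 : al0 R y ((R.phi f)⁻¹ • R.pi y) ≠ 1) : SyP V (cj f V) z y (f * y * f⁻¹) := by
  have hz := h.ln.z_mem
  have hz1 := h.ln.z_ne
  have hyW := h.V_le hz hz1 hy
  have hfz : f * z * f⁻¹ = z := conj_eq_of_comm (mem_centralizer_singleton_iff.mp hf)
  have hL : cj f V ∈ lines V z := by
    have := mem_lines_cj (g := f) (L := V) (V := V) (x := z) ⟨⟨1, (cj_one V).symm⟩, hz⟩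
    rwa [hfz] at this
  have hqL : f * y * f⁻¹ ∈ cj f V := conj_mem_cj hy
  have hqW : f * y * f⁻¹ ∈ ws V z := le_ws hL hqL
  have hqz : f * y * f⁻¹ ≠ z := fun e => hyz (by
    calc y = f⁻¹ * (f * y * f⁻¹) * f := by group
      _ = f⁻¹ * (f * z * f⁻¹) * f := by rw [e, hfz]
      _ = z := by group)
  refine ⟨hL, hy, hy1, hyz, hqL, fun e => hy1 (conj_eq_one_iff.mp e), hqz, fun hE => h2 ?_, fun hE => h1 ?_⟩
  · have h3 : y ∈ ee (cj f V) (f * z * f⁻¹) := by rw [hfz]; exact hE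
    have h4 := sig_ee_cj.mp h3
    have h5 : f⁻¹ * y * f⁻¹⁻¹ ∈ ee V z := by rwa [inv_inv]
    rw [← R.phi_inv hf, h.rp_act R (inv_mem hf) hyW]
    exact (h.al0_one R hy hy1 hyz h5.1).mpr h5
  · rw [h.rp_act R hf hyW]
    exact (h.al0_one R hy hy1 hyz hqW).mpr hE

/-- (S1) at `v₀` -/
theorem loc_s1 [Finite G] (hN : NT V) {x : H} (h1 : al0 R y (x • R.pi y) ≠ 1) (h2 : al0 R y (x⁻¹ • R.pi y) ≠ 1)
    {e : M} (he : al0 R y e = 1) (he' : al0 R y (x • R.pi y) • e = e) :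
    ∃ j, x⁻¹ • j ∈ i0 R ∧ al0 R y j = 1 ∧ ∀ a ∈ a0 R y, a • j + j = a • e + e := by
  have hz := h.ln.z_mem
  have hz1 := h.ln.z_ne
  have hyW := h.V_le hz hz1 hy
  obtain ⟨f, hf, rfl⟩ := R.phi_surj x
  have S := h.syp R hy hy1 hyz hf h1 h2
  obtain ⟨w, hw, rfl⟩ := h.rp_surj R e
  have hwE := (h.al0_one R hy hy1 hyz hw).mp he
  obtain ⟨e', he'E, hee⟩ := h.ee_swap hy hy1 hyz hwE
  have hqW : f * y * f⁻¹ ∈ ws V z := S.q_ws h
  obtain ⟨b, hb, ht⟩ := h.tw_exists hz hz1 hy hy1 hqW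
  rw [h.rp_act R hf hyW, h.al0_eq R hy hy1 hyz hqW hb ht, h.rp_ee_iff R hy hy1 hyz hwE hb] at he'
  obtain ⟨j, hj, hjE, hjf⟩ := S.one h hN he'E ((hee _ hqW _ hb ht).mpr he')
  refine ⟨R.pi j, ?_, (h.al0_one R hy hy1 hyz hjE.1).mpr hjE, fun a ha => ?_⟩
  · rw [← R.phi_inv hf, h.rp_act R (inv_mem hf) hjE.1, inv_inv]
    exact (h.mem_i0 R).mpr ⟨_, sig_ii_cj.mp hj, rfl⟩
  · obtain ⟨c, hc, rfl⟩ := (h.mem_a0 R hy hy1).mp ha
    obtain ⟨a', ha', ht'⟩ := h.tw_exists hy hy1 hz hz1 hc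
    have h3 := (hjf a' ha' c hc (h.tw_symm ht')).trans (hee a' ha' c hc (h.tw_symm ht'))
    obtain ⟨h4, h5⟩ := h.rp_ee R hy hy1 hyz hjE hc
    obtain ⟨h6, h7⟩ := h.rp_ee R hy hy1 hyz hwE hc
    have h8 := h.rp_two R
    by_cases h9 : w * c = c * w
    · rw [h4 (h3.mpr h9), h6 h9, h8, h8]
    · rw [h5 (fun e => h9 (h3.mp e)), h7 h9, add_comm (R.pi j), add_comm (R.pi w), add_assoc, add_assoc, h8, h8]

/-- (S3) at `v₀` -/
theorem loc_s3 [Finite G] (hN : NT V) {x : H} (h1 : al0 R y (x • R.pi y) ≠ 1) (h2 : al0 R y (x⁻¹ • R.pi y) ≠ 1)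
    {a : H} (ha : a ∈ a0 R y) (h3 : al0 R y (x⁻¹ • (a • x • R.pi y + x • R.pi y)) ≠ 1) :
    ∃ j, x⁻¹ • j ∈ i0 R ∧ al0 R y j = 1 ∧ al0 R y (x • R.pi y) • j = j + R.pi y := by
  have hz := h.ln.z_mem
  have hz1 := h.ln.z_ne
  have hyW := h.V_le hz hz1 hy
  obtain ⟨f, hf, rfl⟩ := R.phi_surj x
  have S := h.syp R hy hy1 hyz hf h1 h2
  have hfz : f * z * f⁻¹ = z := conj_eq_of_comm (mem_centralizer_singleton_iff.mp hf)
  have hqW : f * y * f⁻¹ ∈ ws V z := S.q_ws h
  obtain ⟨b₁, hb₁, rfl⟩ := (h.mem_a0 R hy hy1).mp ha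
  have hcom : ⁅b₁, f * y * f⁻¹⁆ ∈ ws V z := ii_le hz hz1 (h.comm_ii_mem hy hy1 hz hz1 hb₁ hqW)
  have hbw : b₁ * (f * y * f⁻¹) * b₁⁻¹ ∈ ws V z :=
    conj_mem_of_normalizer (h.cent_norm hz) (h.ws_le_centralizer_V hy hy1 hb₁) hqW
  have hω : ⁅f * y * f⁻¹, b₁⁆ ∉ ee (cj f V) z := by
    intro hE
    apply h3
    rw [h.rp_act R hf hyW, h.rp_comm R (h.ws_le_cz hy hy1 hb₁) hqW hbw, ← R.phi_inv hf]
    have e1 : b₁ * (f * y * f⁻¹) * b₁⁻¹ * (f * y * f⁻¹)⁻¹ = ⁅f * y * f⁻¹, b₁⁆ := by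
      rw [← h.comm_swap hz hz1 hy hy1 hqW hb₁, commutatorElement_def]
    rw [h.comm_swap hz hz1 hy hy1 hqW hb₁] at hcom
    rw [e1, h.rp_act R (inv_mem hf) hcom, inv_inv]
    have h4 : ⁅f * y * f⁻¹, b₁⁆ ∈ ee (cj f V) (f * z * f⁻¹) := by rw [hfz]; exact hE
    have h5 := sig_ee_cj.mp h4
    exact (h.al0_one R hy hy1 hyz h5.1).mpr h5
  obtain ⟨j, hj, hjE, hjf⟩ := S.three h hN hb₁ hω
  refine ⟨R.pi j, ?_, (h.al0_one R hy hy1 hyz hjE.1).mpr hjE, ?_⟩
  · rw [← R.phi_inv hf, h.rp_act R (inv_mem hf) hjE.1, inv_inv]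
    exact (h.mem_i0 R).mpr ⟨_, sig_ii_cj.mp hj, rfl⟩
  · obtain ⟨b, hb, ht⟩ := h.tw_exists hz hz1 hy hy1 hqW
    rw [h.rp_act R hf hyW, h.al0_eq R hy hy1 hyz hqW hb ht]
    exact (h.rp_ee R hy hy1 hyz hjE hb).2 (hjf b hb ht)

/-- an S-pair `l = g v₀`, `m = k v₀` moved to `v₀` -/
theorem pair_aux [Finite G] {l m : M} {g k : H} (hg : g • R.pi y = l) (hk : k • R.pi y = m)
    (h1 : AL R y l m ≠ 1) (h2 : AL R y m l ≠ 1) :
    al0 R y ((g⁻¹ * k) • R.pi y) ≠ 1 ∧ al0 R y ((g⁻¹ * k)⁻¹ • R.pi y) ≠ 1 := by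
  constructor
  · intro e
    apply h1
    rw [h.AL_eq R hy hy1 hyz hg, ← hk, smul_smul, e, mul_one, mul_inv_cancel]
  · intro e
    apply h2
    have e1 : (g⁻¹ * k)⁻¹ = k⁻¹ * g := by group
    rw [e1] at e
    rw [h.AL_eq R hy hy1 hyz hk, ← hg, smul_smul, e, mul_one, mul_inv_cancel]

/-- **(S1)** on `M` -/
theorem in_s1 [Finite G] (hN : NT V) {l m : M} (hl : l ∈ LL R y) (hm : m ∈ LL R y) (h1 : AL R y l m ≠ 1)
    (h2 : AL R y m l ≠ 1) {e : M} (he : AL R y l e = 1) (he' : AL R y l m • e = e) :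
    ∃ j ∈ II R y m, AL R y l j = 1 ∧ ∀ a ∈ AA R y l, a • j + j = a • e + e := by
  obtain ⟨g, hg⟩ := hl
  obtain ⟨k, hk⟩ := hm
  have hg' : g • R.pi y = l := hg
  have hk' : k • R.pi y = m := hk
  obtain ⟨h3, h4⟩ := h.pair_aux R hy hy1 hyz hg' hk' h1 h2
  have hgk : (g⁻¹ * k) • R.pi y = g⁻¹ • m := by rw [mul_smul, hk']
  have h5 : al0 R y (g⁻¹ • e) = 1 := by
    rw [h.AL_eq R hy hy1 hyz hg'] at he
    exact conj_eq_one_iff.mp he
  have h6 : al0 R y ((g⁻¹ * k) • R.pi y) • g⁻¹ • e = g⁻¹ • e := by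
    rw [h.AL_eq R hy hy1 hyz hg'] at he'
    rw [hgk]
    have h7 := congrArg (fun u => g⁻¹ • u) he'
    change g⁻¹ • ((g * al0 R y (g⁻¹ • m) * g⁻¹) • e) = g⁻¹ • e at h7
    rw [mul_smul, mul_smul, inv_smul_smul] at h7
    exact h7
  obtain ⟨j, hj, hj1, hjf⟩ := h.loc_s1 R hy hy1 hyz hN h3 h4 h5 h6
  refine ⟨g • j, ?_, ?_, fun a ha => ?_⟩
  · rw [h.mem_II R hy hy1 hyz hk', smul_smul]
    have e1 : (g⁻¹ * k)⁻¹ = k⁻¹ * g := by group
    rwa [e1] at hj
  · rw [h.AL_eq R hy hy1 hyz hg', inv_smul_smul, hj1, mul_one, mul_inv_cancel]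
  · rw [h.mem_AA R hy hy1 hyz hg'] at ha
    have h7 := congrArg (fun u => g • u) (hjf _ ha)
    change g • ((g⁻¹ * a * g) • j + j) = g • ((g⁻¹ * a * g) • g⁻¹ • e + g⁻¹ • e) at h7
    rw [smul_add, smul_add, smul_inv_smul, smul_smul, smul_smul, smul_smul] at h7
    have e1 : g * (g⁻¹ * a * g) = a * g := by group
    have e2 : a * g * g⁻¹ = a := by group
    rw [e1, e2, mul_smul] at h7
    exact h7

/-- **(S3)** on `M`, weak form -/
theorem in_s3w [Finite G] (hN : NT V) {l m : M} {a : H} (hl : l ∈ LL R y) (hm : m ∈ LL R y) (h1 : AL R y l m ≠ 1)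
    (h2 : AL R y m l ≠ 1) (ha : a ∈ AA R y l) (h3 : AL R y m (a • m + m) ≠ 1) :
    ∃ j ∈ II R y m, AL R y l j = 1 ∧ AL R y l m • j = j + l := by
  obtain ⟨g, hg⟩ := hl
  obtain ⟨k, hk⟩ := hm
  have hg' : g • R.pi y = l := hg
  have hk' : k • R.pi y = m := hk
  obtain ⟨h4, h5⟩ := h.pair_aux R hy hy1 hyz hg' hk' h1 h2
  have hgk : (g⁻¹ * k) • R.pi y = g⁻¹ • m := by rw [mul_smul, hk']
  rw [h.mem_AA R hy hy1 hyz hg'] at ha
  have h6 : al0 R y ((g⁻¹ * k)⁻¹ • ((g⁻¹ * a * g) • (g⁻¹ * k) • R.pi y + (g⁻¹ * k) • R.pi y)) ≠ 1 := by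
    intro e
    apply h3
    rw [h.AL_eq R hy hy1 hyz hk']
    have e1 : (g⁻¹ * k)⁻¹ • ((g⁻¹ * a * g) • (g⁻¹ * k) • R.pi y + (g⁻¹ * k) • R.pi y) = k⁻¹ • (a • m + m) := by
      have e2 : (g⁻¹ * k)⁻¹ • (g⁻¹ * a * g) • g⁻¹ • m = k⁻¹ • a • m := by
        rw [smul_smul, smul_smul, smul_smul]
        congr 1
        group
      have e3 : (g⁻¹ * k)⁻¹ • g⁻¹ • m = k⁻¹ • m := by
        rw [smul_smul]
        congr 1
        group
      rw [hgk, smul_add, smul_add, e2, e3]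
    rw [e1] at e
    rw [e, mul_one, mul_inv_cancel]
  obtain ⟨j, hj, hj1, hjf⟩ := h.loc_s3 R hy hy1 hyz hN h4 h5 ha h6
  refine ⟨g • j, ?_, ?_, ?_⟩
  · rw [h.mem_II R hy hy1 hyz hk', smul_smul]
    have e1 : (g⁻¹ * k)⁻¹ = k⁻¹ * g := by group
    rwa [e1] at hj
  · rw [h.AL_eq R hy hy1 hyz hg', inv_smul_smul, hj1, mul_one, mul_inv_cancel]
  · rw [hgk] at hjf
    rw [h.AL_eq R hy hy1 hyz hg', mul_smul, mul_smul, inv_smul_smul, hjf, smul_add, hg']

/-- **(S3)** on `M` -/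
theorem in_s3 [Finite G] (hN : NT V) {l m : M} (hl : l ∈ LL R y) (hm : m ∈ LL R y) (h1 : AL R y l m ≠ 1)
    (h2 : AL R y m l ≠ 1) (h3 : ∃ a ∈ AA R y l, AL R y m (a • m + m) ≠ 1) {e : M} (he : AL R y l e = 1) :
    ∃ j ∈ II R y m, AL R y l j = 1 ∧ ∀ a ∈ AA R y l, a • j + j = a • e + e := by
  by_cases h4 : AL R y l m • e = e
  · exact h.in_s1 R hy hy1 hyz hN hl hm h1 h2 he h4
  · obtain ⟨a, ha, h5⟩ := h3
    obtain ⟨j, hj, hj1, hjm⟩ := h.in_s3w R hy hy1 hyz hN hl hm h1 h2 ha h5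
    have h6 := ((h.in_al_ker R hy hy1 hyz hN hl e).mp he _ (h.in_al_mem R hy hy1 hyz hl m)).resolve_left h4
    have h7 := h.rp_two R
    obtain ⟨i, hi, hi1, hif⟩ := h.in_s1 R hy hy1 hyz hN hl hm h1 h2 (e := e + j)
      (by rw [h.in_al_add R hy hy1 hyz hl, he, hj1, one_mul]) (by
        rw [smul_add, h6, hjm]
        calc e + l + (j + l) = e + j + (l + l) := by abel
          _ = e + j := by rw [h7, add_zero])
    refine ⟨i + j, add_mem hi hj, by rw [h.in_al_add R hy hy1 hyz hl, hi1, hj1, one_mul], fun b hb => ?_⟩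
    calc b • (i + j) + (i + j) = (b • i + i) + (b • j + j) := by rw [smul_add]; abel
      _ = (b • e + e) + ((b • j + j) + (b • j + j)) := by rw [hif b hb, smul_add]; abel
      _ = b • e + e := by rw [h7, add_zero]

/-- the record for `SIGMA_k` -/
theorem sk [Finite G] (hN : NT V) (h4 : 4 ≤ (ee V z).relIndex (ws V z)) :
    SK (LL R y) (AA R y) (II R y) (AL R y) where
  two := h.rp_two R
  ne0 := fun hl => h.in_ne R hy hy1 hyz hl
  smul := fun x _ hl => smul_mem_LL R y x hl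
  A_conj := fun _ _ _ hl ha => h.in_A_conj R hy hy1 hyz hl ha
  I_conj := fun x _ _ hl hu => h.in_I_conj R hy hy1 hyz hl x hu
  sq := fun hl ha => h.in_sq R hy hy1 hyz hl ha
  four := fun hl => by rw [h.in_card R hy hy1 hyz hl]; exact h4
  self := fun hl => h.in_self R hy hy1 hyz hl
  fix := fun hl ha hu => h.in_fix R hy hy1 hyz hl ha hu
  al_mem := fun hl m => h.in_al_mem R hy hy1 hyz hl m
  al_add := fun hl m m' => h.in_al_add R hy hy1 hyz hl m m'
  al_conj := fun x hl m => h.in_al_conj R hy hy1 hyz hl x m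
  al_ker := fun hl m => h.in_al_ker R hy hy1 hyz hN hl m
  phi := fun hl ha ha1 => h.in_phi R hy hy1 hyz hN hl ha ha1
  s1 := fun hl hm h1 h2 he he' => h.in_s1 R hy hy1 hyz hN hl hm h1 h2 he he'
  s3 := fun hl hm h1 h2 ha h3 => h.in_s3w R hy hy1 hyz hN hl hm h1 h2 ha h3

/-- **`SIGMA_k`** on `M` -/
theorem in_sigma [Finite G] (hN : NT V) (h4 : 4 ≤ (ee V z).relIndex (ws V z)) {l : M} {a o : H} (hl : l ∈ LL R y)
    (ha : a ∈ AA R y l) (ha1 : a ≠ 1) {n : ℕ} (hn : Odd n) (hon : o ^ n = 1) (ho1 : o ≠ 1) (hao : a * o * a⁻¹ = o⁻¹) :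
    o ^ 3 = 1 ∧ AL R y l (o • l) = 1 ∧ a • o • l = o • l + l ∧ o⁻¹ • l = o • l + l :=
  (h.sk R hy hy1 hyz hN h4).sigma hl ha ha1 hn hon ho1 hao

end One

end Cfsg.Agent.Omega.NO3S.TwoOne

end

end

-- merged: Cfsg.Agent.Omega.NO3S.TwoOne.PG.Main
section

/-!
# NO-3S, `TwoOne` / `CompP`, `k ≥ 2`, `D_x = I`: section 5 of bb OMEGA #19417 (helper409), pure form

`H` acts on the elementary abelian 2-group `M`; `L` = the line vectors, `A l`, `I l`, `al l` (`l ∈ L`) the data of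
the line `l`.  `Dat` = the fields.  No plane axiom, no irreducibility, no counting is used.

* `Dat.ns` : an S-pair `(l, m)` with `[m, A_l] ≰ E_m` has `al m l • l ≠ l`;
* `Dat.q_zero` (5.3), (5.4) : `q_l = 0` for all `l` : `al l x • x + x ∈ {0, l}`;
* `Dat.part` (5.2) : with `SIGMA_k` every S-pair is partial (the field `part` of `PE.Dat`).
-/

set_option autoImplicit false

namespace Cfsg.Agent.Omega.NO3S.TwoOne.PG

/-- the fields -/
structure Dat {M H : Type*} [AddCommGroup M] [Group H] [DistribMulAction H M] (L : Set M) (A : M → Subgroup H)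
    (I : M → AddSubgroup M) (al : M → M → H) : Prop where
  two : ∀ m : M, m + m = 0
  zero : (0 : M) ∉ L
  gen : AddSubgroup.closure L = ⊤
  smul : ∀ (h : H) {l : M}, l ∈ L → h • l ∈ L
  trans : ∀ {l m : M}, l ∈ L → m ∈ L → ∃ h : H, h • l = m
  A_conj : ∀ (h : H) {l : M} {a : H}, l ∈ L → a ∈ A l → h * a * h⁻¹ ∈ A (h • l)
  I_conj : ∀ (h : H) {l u : M}, l ∈ L → u ∈ I l → h • u ∈ I (h • l)
  sq : ∀ {l : M} {a : H}, l ∈ L → a ∈ A l → a * a = 1
  four : ∀ {l : M}, l ∈ L → 4 ≤ Nat.card (A l)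
  self : ∀ {l : M}, l ∈ L → l ∈ I l
  comm : ∀ {l : M} {a : H}, l ∈ L → a ∈ A l → ∀ m : M, a • m + m ∈ I l
  fix : ∀ {l : M} {a : H} {u : M}, l ∈ L → a ∈ A l → u ∈ I l → a • u = u
  al_mem : ∀ {l : M}, l ∈ L → ∀ m, al l m ∈ A l
  al_add : ∀ {l : M}, l ∈ L → ∀ m m', al l (m + m') = al l m * al l m'
  al_surj : ∀ {l : M} {a : H}, l ∈ L → a ∈ A l → ∃ m, al l m = a
  al_conj : ∀ (h : H) {l : M}, l ∈ L → ∀ m, al (h • l) (h • m) = h * al l m * h⁻¹
  al_ker : ∀ {l : M}, l ∈ L → ∀ m, al l m = 1 ↔ ∀ a ∈ A l, a • m = m ∨ a • m = m + l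
  sy : ∀ {l : M}, l ∈ L → ∀ m m', al l m' • m + m + (al l m • m' + m') = 0 ∨
    al l m' • m + m + (al l m • m' + m') = l
  phi : ∀ {l : M} {a : H}, l ∈ L → a ∈ A l → a ≠ 1 → ∃ e, al l e = 1 ∧ a • e = e + l
  five : ∀ {l m : M}, l ∈ L → m ∈ L → al m l ≠ 1 → al l m ≠ 1
  s1 : ∀ {l m : M}, l ∈ L → m ∈ L → al l m ≠ 1 → al m l ≠ 1 → ∀ e, al l e = 1 → al l m • e = e →
    ∃ j ∈ I m, al l j = 1 ∧ ∀ b ∈ A l, b • j + j = b • e + e
  s3 : ∀ {l m : M}, l ∈ L → m ∈ L → al l m ≠ 1 → al m l ≠ 1 → (∃ a ∈ A l, al m (a • m + m) ≠ 1) →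
    ∃ j ∈ I m, al l j = 1 ∧ al l m • j = j + l
  alpha : ∀ {l m u : M}, l ∈ L → m ∈ L → al l m ≠ 1 → al m l ≠ 1 → u ∈ I l → u ∈ I m → u ≠ 0 → al l m • m = m
  kappa : ∀ {l m x : M}, l ∈ L → m ∈ L → al l m ≠ 1 → al m l ≠ 1 → al l x • x + x ≠ 0 → al l x • x + x ≠ l →
    al m (al l x • m + m + l) ≠ 1 → ∃ u, u ≠ 0 ∧ u ∈ I l ∧ u ∈ I m

/-- `q_l(x) = 0` -/
def Z {M H : Type*} [AddCommGroup M] [Group H] [DistribMulAction H M] (al : M → M → H) (l x : M) : Prop :=
  al l x • x + x = 0 ∨ al l x • x + x = l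

namespace Dat

variable {M H : Type*} [AddCommGroup M] [Group H] [DistribMulAction H M] {L : Set M} {A : M → Subgroup H}
    {I : M → AddSubgroup M} {al : M → M → H} (G : Dat L A I al)
include G

theorem two_left (x y : M) : x + (x + y) = y := by
  rw [← add_assoc, G.two, zero_add]

theorem mid (e l : M) : e + l + e = l := by
  rw [add_comm e l, add_assoc, G.two, add_zero]

theorem inv {l : M} {a : H} (hl : l ∈ L) (ha : a ∈ A l) : a⁻¹ = a :=
  inv_eq_of_mul_eq_one_left (G.sq hl ha)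

theorem A_comm {l : M} {a b : H} (hl : l ∈ L) (ha : a ∈ A l) (hb : b ∈ A l) : a * b = b * a := by
  have h := G.sq hl (mul_mem ha hb)
  calc a * b = (a * b)⁻¹ := (inv_eq_of_mul_eq_one_left h).symm
    _ = b * a := by rw [mul_inv_rev, G.inv hl ha, G.inv hl hb]

theorem A_fix {l : M} {a : H} (hl : l ∈ L) (ha : a ∈ A l) : a • l = l := G.fix hl ha (G.self hl)

theorem al_I_one {l u : M} (hl : l ∈ L) (hu : u ∈ I l) : al l u = 1 :=
  (G.al_ker hl u).2 fun _ ha => Or.inl (G.fix hl ha hu)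

theorem al_self {l : M} (hl : l ∈ L) : al l l = 1 := G.al_I_one hl (G.self hl)

theorem ne_zero {l : M} (hl : l ∈ L) : l ≠ 0 := fun e => G.zero (e ▸ hl)

theorem al_zero {l : M} (hl : l ∈ L) : al l 0 = 1 := G.al_I_one hl (zero_mem _)

/-- `[x, a b] = [x, a] + [x, b]` -/
theorem mul_add' {l : M} {a b : H} (hl : l ∈ L) (ha : a ∈ A l) (hb : b ∈ A l) (x : M) :
    (a * b) • x + x = (a • x + x) + (b • x + x) := by
  have h1 := G.fix hl ha (G.comm hl hb x)
  rw [smul_add] at h1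
  rw [mul_smul]
  calc a • b • x + x = (a • b • x + a • x) + (a • x + x) := by
        simp only [add_assoc, G.two_left]
    _ = (a • x + x) + (b • x + x) := by rw [h1]; simp only [add_comm, add_left_comm]

/-- `q_l` is additive modulo `l` -/
theorem q_add {l : M} (hl : l ∈ L) (x y : M) :
    al l (x + y) • (x + y) + (x + y) = (al l x • x + x) + (al l y • y + y) ∨
      al l (x + y) • (x + y) + (x + y) = (al l x • x + x) + (al l y • y + y) + l := by
  have h1 : al l (x + y) • (x + y) + (x + y) =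
      (al l x • x + x) + (al l y • y + y) + (al l y • x + x + (al l x • y + y)) := by
    have e1 := G.mul_add' hl (G.al_mem hl x) (G.al_mem hl y) (x + y)
    rw [G.al_add hl, e1, smul_add, smul_add]
    simp only [add_assoc, add_comm, add_left_comm]
  rw [h1]
  rcases G.sy hl x y with h | h
  · left; rw [h, add_zero]
  · right; rw [h]

omit G in
theorem Z_zero {l : M} : Z al l 0 := Or.inl (by rw [smul_zero, add_zero])

theorem Z_of {l e : M} (h : al l e = 1) : Z al l e := Or.inl (by rw [h, one_smul, G.two])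

theorem Z_add {l x y : M} (hl : l ∈ L) (hx : Z al l x) (hy : Z al l y) : Z al l (x + y) := by
  rcases G.q_add hl x y with h | h <;> rcases hx with h1 | h1 <;> rcases hy with h2 | h2 <;>
    rw [h1, h2] at h <;> simp only [Z, h, G.two, add_zero, zero_add, true_or, or_true]

theorem Z_left {l x y : M} (hl : l ∈ L) (hx : Z al l x) (hy : ¬ Z al l y) : ¬ Z al l (x + y) := fun h =>
  hy (by rw [← G.two_left x y]; exact G.Z_add hl hx h)

theorem Z_conj (g : H) {l x : M} (hl : l ∈ L) : Z al (g • l) (g • x) ↔ Z al l x := by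
  have e : al (g • l) (g • x) • (g • x) + g • x = g • (al l x • x + x) := by
    rw [G.al_conj g hl, smul_add, smul_smul, smul_smul]
    congr 2
    group
  unfold Z
  rw [e]
  constructor
  · rintro (h | h)
    · left; exact (smul_eq_zero_iff_eq g).mp h
    · right; exact smul_left_cancel g h
  · rintro (h | h)
    · left; rw [h, smul_zero]
    · right; rw [h]

/-- all functionals on `A_l` come from `I_m` -/
theorem all_fun {l m : M} (hl : l ∈ L) (hm : m ∈ L) (h1 : al l m ≠ 1) (h2 : al m l ≠ 1)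
    (h3 : ∃ a ∈ A l, al m (a • m + m) ≠ 1) {e : M} (he : al l e = 1) :
    ∃ j ∈ I m, al l j = 1 ∧ ∀ b ∈ A l, b • j + j = b • e + e := by
  rcases (G.al_ker hl e).1 he _ (G.al_mem hl m) with h4 | h4
  · exact G.s1 hl hm h1 h2 e he h4
  · obtain ⟨j₀, hj₀, hj₀1, hj₀m⟩ := G.s3 hl hm h1 h2 h3
    obtain ⟨j₁, hj₁, hj₁1, hj₁b⟩ := G.s1 hl hm h1 h2 (e + j₀) (by rw [G.al_add hl, he, hj₀1, one_mul]) (by
      rw [smul_add, h4, hj₀m]
      calc e + l + (j₀ + l) = e + j₀ + (l + l) := by simp only [add_assoc, add_comm, add_left_comm]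
        _ = e + j₀ := by rw [G.two, add_zero])
    refine ⟨j₁ + j₀, add_mem hj₁ hj₀, by rw [G.al_add hl, hj₁1, hj₀1, one_mul], fun b hb => ?_⟩
    have h5 := hj₁b b hb
    rw [smul_add] at h5
    calc b • (j₁ + j₀) + (j₁ + j₀) = (b • j₁ + j₁) + (b • j₀ + j₀) := by
          rw [smul_add]; simp only [add_assoc, add_comm, add_left_comm]
      _ = b • e + b • j₀ + (e + j₀) + (b • j₀ + j₀) := by rw [h5]
      _ = (b • e + e) + ((b • j₀ + j₀) + (b • j₀ + j₀)) := by abel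
      _ = b • e + e := by rw [G.two, add_zero]

/-- if `[m, A_l] ≰ E_m` then `al m l` moves `l` -/
theorem ns {l m : M} (hl : l ∈ L) (hm : m ∈ L) (h1 : al l m ≠ 1) (h2 : al m l ≠ 1)
    (h3 : ∃ a ∈ A l, al m (a • m + m) ≠ 1) : al m l • l ≠ l := by
  intro hn
  obtain ⟨n, hnd⟩ : ∃ n, n = al m l := ⟨_, rfl⟩
  rw [← hnd] at hn h2
  have hnA : n ∈ A m := hnd ▸ G.al_mem hm l
  have h2' : al m l ≠ 1 := hnd ▸ h2
  have key : ∀ b ∈ A l, n * b * n⁻¹ = b := by
    intro b hb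
    have hb' : n * b * n⁻¹ ∈ A l := by
      have := G.A_conj n hl hb
      rwa [hn] at this
    by_contra hne
    have hc : (n * b * n⁻¹) * b ≠ 1 := fun h => hne
      ((inv_eq_of_mul_eq_one_left h).symm.trans (G.inv hl hb))
    obtain ⟨e, he, hce⟩ := G.phi hl (mul_mem hb' hb) hc
    obtain ⟨j, hj, hj1, hjb⟩ := G.all_fun hl hm h1 h2' h3 he
    have h4 : (n * b * n⁻¹ * b) • j + j = l := by
      rw [hjb _ (mul_mem hb' hb), hce, G.mid]
    have hnj : n • j = j := G.fix hm hnA hj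
    have hnj' : n⁻¹ • j = j := by rw [G.inv hm hnA]; exact hnj
    have hn' : n⁻¹ • l = l := by rw [G.inv hm hnA]; exact hn
    have e1 : (n * b * n⁻¹) • j = n • b • j := by rw [mul_smul, mul_smul, hnj']
    have h5 : (n * b * n⁻¹ * b) • j = j := by
      rcases (G.al_ker hl j).1 hj1 b hb with h6 | h6
      · rw [mul_smul, h6, e1, h6, hnj]
      · rw [mul_smul, h6, smul_add, e1, h6, smul_add, hnj, hn, G.A_fix hl hb', add_assoc, G.two, add_zero]
    rw [h5, G.two] at h4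
    exact G.ne_zero hl h4.symm
  obtain ⟨e, -, he⟩ := G.phi hm hnA h2
  have h4 := G.al_conj n hl e
  rw [hn, key _ (G.al_mem hl e), he, G.al_add hl] at h4
  exact h1 (mul_eq_left.mp h4)

section q

/-- `ψ(a) = al m (a • m + m)` is `al m l` on `{q_l ≠ 0}` -/
theorem psi {l m x : M} (hl : l ∈ L) (hm : m ∈ L) (h1 : al l m ≠ 1) (h2 : al m l ≠ 1)
    (h3 : ∀ u, u ∈ I l → u ∈ I m → u = 0) (hx : ¬ Z al l x) : al m (al l x • m + m) = al m l := by
  by_contra hne
  obtain ⟨u, hu, hu1, hu2⟩ := G.kappa hl hm h1 h2 (fun e => hx (Or.inl e)) (fun e => hx (Or.inr e)) (by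
    intro h
    rw [G.al_add hm] at h
    exact hne ((eq_inv_of_mul_eq_one_left h).trans (G.inv hm (G.al_mem hm l))))
  exact hu (h3 u hu1 hu2)

theorem psi_add {l m x y : M} (hl : l ∈ L) (hm : m ∈ L) :
    al m (al l (x + y) • m + m) = al m (al l x • m + m) * al m (al l y • m + m) := by
  rw [G.al_add hl, G.mul_add' hl (G.al_mem hl x) (G.al_mem hl y), G.al_add hm]

variable (hex : ∃ l ∈ L, ∃ x, ¬ Z al l x)
include hex

theorem exists_nZ {l : M} (hl : l ∈ L) : ∃ m ∈ L, ¬ Z al l m := by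
  obtain ⟨l₀, hl₀, x₀, hx₀⟩ := hex
  obtain ⟨g, rfl⟩ := G.trans hl₀ hl
  by_contra hcon
  push Not at hcon
  apply hx₀
  rw [← G.Z_conj g hl₀]
  have : ∀ v ∈ AddSubgroup.closure L, Z al (g • l₀) v := by
    intro v hv
    induction hv using AddSubgroup.closure_induction with
    | mem v hv => exact hcon v hv
    | zero => exact Z_zero
    | add x y _ _ hx hy => exact G.Z_add hl hx hy
    | neg x _ hx =>
      have : -x = x := neg_eq_of_add_eq_zero_left (G.two x)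
      rwa [this]
  exact this _ (by rw [G.gen]; trivial)

omit hex in
/-- the opposite pairs -/
theorem opp {l m : M} (hl : l ∈ L) (hm : m ∈ L) (h : ¬ Z al l m) :
    al l m ≠ 1 ∧ al m l ≠ 1 ∧ (∀ u, u ∈ I l → u ∈ I m → u = 0) := by
  have h1 : al l m ≠ 1 := fun e => h (G.Z_of e)
  have h2 : al m l ≠ 1 := G.five hm hl h1
  refine ⟨h1, h2, fun u hu hu' => ?_⟩
  by_contra hu0
  exact h (Or.inl (by rw [G.alpha hl hm h1 h2 hu hu' hu0, G.two]))

theorem nZ_add {l x y : M} (hl : l ∈ L) (hx : ¬ Z al l x) (hy : ¬ Z al l y) : Z al l (x + y) := by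
  by_contra hxy
  obtain ⟨m, hm, h⟩ := G.exists_nZ hex hl
  obtain ⟨h1, h2, h3⟩ := G.opp hl hm h
  have h4 := G.psi_add (x := x) (y := y) hl hm
  rw [G.psi hl hm h1 h2 h3 hxy, G.psi hl hm h1 h2 h3 hx, G.psi hl hm h1 h2 h3 hy, G.sq hm (G.al_mem hm l)] at h4
  exact h2 h4

theorem Z_symm {l m : M} (hl : l ∈ L) (hm : m ∈ L) (h : ¬ Z al l m) : ¬ Z al m l := by
  intro hZ
  obtain ⟨h1, h2, h3⟩ := G.opp hl hm h
  have h4 : al m l • l ≠ l := G.ns hl hm h1 h2 ⟨_, G.al_mem hl m, by rw [G.psi hl hm h1 h2 h3 h]; exact h2⟩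
  have h5 : al m l • l + l = m := hZ.resolve_left fun e => h4 (by
    calc al m l • l = (al m l • l + l) + l := by rw [add_assoc, G.two, add_zero]
      _ = l := by rw [e, zero_add])
  obtain ⟨x, -, hx⟩ := G.exists_nZ hex hm
  have hx' : ¬ Z al m (l + x) := G.Z_left hm hZ hx
  have h3' : ∀ u, u ∈ I m → u ∈ I l → u = 0 := fun u hu hu' => h3 u hu' hu
  have h6 := G.psi_add (x := l) (y := x) hm hl
  rw [G.psi hm hl h2 h1 h3' hx', G.psi hm hl h2 h1 h3' hx, h5] at h6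
  exact h1 (right_eq_mul.mp h6)

open Classical in
omit hex in
theorem F_exists (hex : ∃ l ∈ L, ∃ x, ¬ Z al l x) {l : M} (hl : l ∈ L) :
    ∃ f : M →+ ZMod 2, ∀ x, f x = if Z al l x then 0 else 1 := by
  refine ⟨AddMonoidHom.mk' (fun x => if Z al l x then 0 else 1) fun x y => ?_, fun x => rfl⟩
  by_cases hx : Z al l x
  · by_cases hy : Z al l y
    · rw [if_pos hx, if_pos hy, if_pos (G.Z_add hl hx hy), add_zero]
    · rw [if_pos hx, if_neg hy, if_neg (G.Z_left hl hx hy), zero_add]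
  · by_cases hy : Z al l y
    · rw [if_neg hx, if_pos hy, if_neg (by rw [add_comm]; exact G.Z_left hl hy hx), add_zero]
    · rw [if_neg hx, if_neg hy, if_pos (G.nZ_add hex hl hx hy)]
      decide

open Classical in
/-- the form: for every `e` there is `f_e` with `f_e m = F_m e` for `m ∈ L` -/
theorem form (e : M) : ∃ f : M →+ ZMod 2, ∀ m ∈ L, f m = if Z al m e then 0 else 1 := by
  have : ∀ v ∈ AddSubgroup.closure L, ∃ f : M →+ ZMod 2, ∀ m ∈ L, f m = if Z al m v then 0 else 1 := by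
    intro v hv
    induction hv using AddSubgroup.closure_induction with
    | mem v hv =>
      obtain ⟨f, hf⟩ := G.F_exists hex hv
      refine ⟨f, fun m hm => ?_⟩
      rw [hf]
      by_cases h : Z al v m
      · rw [if_pos h, if_pos]
        by_contra h'
        exact G.Z_symm hex hm hv h' h
      · rw [if_neg h, if_neg (G.Z_symm hex hv hm h)]
    | zero => exact ⟨0, fun m hm => by rw [if_pos (Z_zero)]; rfl⟩
    | add x y _ _ hx hy =>
      obtain ⟨f, hf⟩ := hx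
      obtain ⟨g, hg⟩ := hy
      refine ⟨f + g, fun m hm => ?_⟩
      obtain ⟨k, hk⟩ := G.F_exists hex hm
      rw [AddMonoidHom.add_apply, hf m hm, hg m hm, ← hk, ← hk, ← hk, map_add]
    | neg x _ hx =>
      have : -x = x := neg_eq_of_add_eq_zero_left (G.two x)
      rwa [this]
  exact this e (by rw [G.gen]; trivial)

omit hex in
theorem hom_ext {f g : M →+ ZMod 2} (h : ∀ m ∈ L, f m = g m) : f = g := by
  ext x
  have : ∀ v ∈ AddSubgroup.closure L, f v = g v := by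
    intro v hv
    induction hv using AddSubgroup.closure_induction with
    | mem v hv => exact h v hv
    | zero => rw [map_zero, map_zero]
    | add x y _ _ hx hy => rw [map_add, map_add, hx, hy]
    | neg x _ hx => rw [map_neg, map_neg, hx]
  exact this x (by rw [G.gen]; trivial)

open Classical in
/-- the form is invariant -/
theorem form_inv {e : M} {f f' : M →+ ZMod 2} {g : H} (hg : g * g = 1)
    (hf : ∀ m ∈ L, f m = if Z al m e then 0 else 1)
    (hf' : ∀ m ∈ L, f' m = if Z al m (g • e + e) then 0 else 1) (x : M) : f (g • x + x) = f' x := by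
  have h1 : f.comp (DistribSMul.toAddMonoidHom M g + AddMonoidHom.id M) = f' := by
    refine G.hom_ext fun m hm => ?_
    obtain ⟨k, hk⟩ := G.F_exists hex hm
    rw [hf' m hm, ← hk, map_add, hk, hk]
    change f (g • m + m) = _
    rw [map_add, hf m hm, hf _ (G.smul g hm)]
    congr 1
    have e1 : Z al (g • m) e ↔ Z al m (g • e) := by
      have := G.Z_conj g (l := m) (x := g • e) hm
      rwa [smul_smul, hg, one_smul] at this
    simp only [e1]
  rw [← h1]
  rfl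

/-- **(5.3), (5.4)** -/
theorem q_false [Finite H] : False := by
  classical
  obtain ⟨l, hl, -⟩ := id hex
  obtain ⟨x₁, -, hx₁⟩ := G.exists_nZ hex hl
  have ha1 : al l x₁ ≠ 1 := fun e => hx₁ (G.Z_of e)
  -- `y` with `q_l(y) = 0`, `al l y ≠ 1`
  obtain ⟨c, hc, hc1, hca⟩ : ∃ c ∈ A l, c ≠ 1 ∧ c ≠ al l x₁ := by
    by_contra hcon
    push Not at hcon
    have h4 := G.four hl
    have : Nat.card (A l) ≤ 2 := by
      have hsub : ((A l : Subgroup H) : Set H) ⊆ {1, al l x₁} := fun b hb => by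
        by_cases hb1 : b = 1
        · exact Or.inl hb1
        · exact Or.inr (hcon b hb hb1)
      calc Nat.card (A l) = Set.ncard ((A l : Subgroup H) : Set H) := Nat.card_coe_set_eq _
        _ ≤ Set.ncard ({1, al l x₁} : Set H) := Set.ncard_le_ncard hsub
        _ ≤ 2 := (Set.ncard_insert_le _ _).trans (by rw [Set.ncard_singleton])
    omega
  obtain ⟨y, hy, hy1⟩ : ∃ y, Z al l y ∧ al l y ≠ 1 := by
    obtain ⟨y₀, rfl⟩ := G.al_surj hl hc
    by_cases hy₀ : Z al l y₀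
    · exact ⟨y₀, hy₀, hc1⟩
    · refine ⟨y₀ + x₁, G.nZ_add hex hl hy₀ hx₁, fun h => hca ?_⟩
      rw [G.al_add hl] at h
      exact (eq_inv_of_mul_eq_one_left h).trans (G.inv hl (G.al_mem hl x₁))
  obtain ⟨e, he, hbe⟩ := G.phi hl (G.al_mem hl y) hy1
  obtain ⟨f, hf⟩ := G.form hex e
  obtain ⟨F, hF⟩ := G.F_exists hex hl
  -- `F` represents `l`
  have hFl : ∀ m ∈ L, F m = if Z al m l then 0 else 1 := by
    intro m hm
    rw [hF]
    by_cases h : Z al l m
    · rw [if_pos h, if_pos]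
      by_contra h'
      exact G.Z_symm hex hm hl h' h
    · rw [if_neg h, if_neg (G.Z_symm hex hl hm h)]
  have h1 : f (al l y • x₁ + x₁) = F x₁ := by
    refine G.form_inv hex (G.sq hl (G.al_mem hl y)) hf ?_ x₁
    have e1 : al l y • e + e = l := by rw [hbe, G.mid]
    rw [e1]
    exact hFl
  have h2 : f (al l x₁ • y + y) = 0 := by
    rcases (G.al_ker hl e).1 he _ (G.al_mem hl x₁) with h | h
    · refine G.form_inv hex (f' := 0) (G.sq hl (G.al_mem hl x₁)) hf ?_ y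
      intro m hm
      rw [h, G.two, if_pos (Z_zero)]
      rfl
    · have h3 := G.form_inv hex (f' := F) (G.sq hl (G.al_mem hl x₁)) hf (by
        have e1 : al l x₁ • e + e = l := by rw [h, G.mid]
        rw [e1]
        exact hFl) y
      rw [h3, hF, if_pos hy]
  have h3 : f l = 0 := by rw [hf l hl, if_pos (G.Z_of he)]
  have h4 : F x₁ = 1 := by rw [hF, if_neg hx₁]
  have h5 : f (al l y • x₁ + x₁ + (al l x₁ • y + y)) = 0 := by
    rcases G.sy hl x₁ y with h | h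
    · rw [h, map_zero]
    · rw [h, h3]
  rw [map_add, h1, h2, h4, add_zero] at h5
  exact one_ne_zero h5

end q

/-- `q_l = 0` for every `l` -/
theorem q_zero [Finite H] {l : M} (hl : l ∈ L) (x : M) : al l x • x + x = 0 ∨ al l x • x + x = l := by
  by_contra hcon
  exact G.q_false ⟨l, hl, x, hcon⟩

/-- **(5.2)** : with `SIGMA_k` every S-pair is partial -/
theorem part [Finite H]
    (sigma : ∀ {l : M} {a o : H}, l ∈ L → a ∈ A l → a ≠ 1 → o ≠ 1 → Odd (orderOf o) → a * o * a⁻¹ = o⁻¹ →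
      al l (o • l) = 1)
    {l m : M} (hl : l ∈ L) (hm : m ∈ L) (h1 : al l m ≠ 1) (h2 : al m l ≠ 1) :
    al l m • m = m ∧ ∀ a ∈ A l, al m (a • m + m) = 1 := by
  -- `al l m • m = m` is enough
  have red : al l m • m = m → ∀ a ∈ A l, al m (a • m + m) = 1 := by
    intro hn
    by_contra hcon
    push Not at hcon
    obtain ⟨j, hj, hj1, hjl⟩ := G.s3 hl hm h1 h2 hcon
    have h3 : al l m • j ∈ I m := by
      have := G.I_conj (al l m) hm hj
      rwa [hn] at this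
    rw [hjl] at h3
    have h4 : l ∈ I m := by
      have := add_mem hj h3
      rwa [G.two_left] at this
    exact h2 (G.al_I_one hm h4)
  by_cases hn : al l m • m = m
  · exact ⟨hn, red hn⟩
  exfalso
  -- `al l m • m = m + l`
  have h3 : al l m • m = m + l := by
    rcases G.q_zero hl m with h | h
    · exact absurd (by
        calc al l m • m = (al l m • m + m) + m := by rw [add_assoc, G.two, add_zero]
          _ = m := by rw [h, zero_add]) hn
    · calc al l m • m = (al l m • m + m) + m := by rw [add_assoc, G.two, add_zero]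
        _ = m + l := by rw [h, add_comm]
  have h4 : al m l • l ≠ l := G.ns hl hm h1 h2 ⟨_, G.al_mem hl m, by
    have : al l m • m + m = l := by rw [h3, G.mid]
    rw [this]; exact h2⟩
  have h5 : al m l • l = l + m := by
    rcases G.q_zero hm l with h | h
    · exact absurd (by
        calc al m l • l = (al m l • l + l) + l := by rw [add_assoc, G.two, add_zero]
          _ = l := by rw [h, zero_add]) h4
    · calc al m l • l = (al m l • l + l) + l := by rw [add_assoc, G.two, add_zero]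
        _ = l + m := by rw [h, add_comm]
  obtain ⟨n, hnd⟩ : ∃ n, n = al l m := ⟨_, rfl⟩
  obtain ⟨n', hnd'⟩ : ∃ n', n' = al m l := ⟨_, rfl⟩
  have hnA : n ∈ A l := hnd ▸ G.al_mem hl m
  have hnA' : n' ∈ A m := hnd' ▸ G.al_mem hm l
  rw [← hnd] at h3
  rw [← hnd'] at h5
  have hnl : n • l = l := G.A_fix hl hnA
  have hnm : n' • m = m := G.A_fix hm hnA'
  obtain ⟨g, hg⟩ : ∃ g, g = n * n' := ⟨_, rfl⟩
  have hgl : g • l = m := by
    rw [hg, mul_smul, h5, smul_add, hnl, h3]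
    calc l + (m + l) = l + (l + m) := by rw [add_comm m l]
      _ = m := G.two_left _ _
  have hgm : g • m = l + m := by rw [hg, mul_smul, hnm, h3, add_comm]
  have hng : n * g * n⁻¹ = g⁻¹ := by
    rw [hg]
    calc n * (n * n') * n⁻¹ = (n * n) * n' * n⁻¹ := by group
      _ = n'⁻¹ * n⁻¹ := by rw [G.sq hl hnA, one_mul, G.inv hm hnA']
      _ = (n * n')⁻¹ := by group
  -- the powers `g ^ (2 ^ s)` act as `g` or `g²`
  have hpow : ∀ s : ℕ, (g ^ 2 ^ s • l = m ∧ g ^ 2 ^ s • m = l + m) ∨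
      (g ^ 2 ^ s • l = l + m ∧ g ^ 2 ^ s • m = l) := by
    intro s
    induction s with
    | zero => left; rw [pow_zero, pow_one]; exact ⟨hgl, hgm⟩
    | succ s ih =>
      have e1 : g ^ 2 ^ (s + 1) = g ^ 2 ^ s * g ^ 2 ^ s := by rw [← pow_add]; congr 1; ring
      rcases ih with ⟨i1, i2⟩ | ⟨i1, i2⟩
      · right
        rw [e1, mul_smul, mul_smul, i1, i2, smul_add, i1, i2]
        refine ⟨rfl, ?_⟩
        calc m + (l + m) = m + (m + l) := by rw [add_comm l m]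
          _ = l := G.two_left _ _
      · left
        rw [e1, mul_smul, mul_smul, i1, i2, smul_add, i1, i2]
        refine ⟨?_, rfl⟩
        calc l + m + l = l + (l + m) := by rw [add_comm]
          _ = m := G.two_left _ _
  obtain ⟨s, t, ht, hst⟩ := Nat.exists_eq_two_pow_mul_odd (orderOf_pos g).ne'
  have ho : orderOf (g ^ 2 ^ s) = t := by
    have hs : 2 ^ s ∣ orderOf g := ⟨t, hst⟩
    rw [orderOf_pow_of_dvd (by positivity) hs, hst, Nat.mul_div_cancel_left _ (by positivity)]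
  have hone : g ^ 2 ^ s • l ≠ l := by
    rcases hpow s with ⟨i1, -⟩ | ⟨i1, -⟩
    · rw [i1]; intro e
      apply h1
      rw [e]; exact G.al_self hl
    · rw [i1]; intro e
      exact G.ne_zero hm (by simpa using e)
  have hσ := sigma hl hnA (hnd ▸ h1) (o := g ^ 2 ^ s) (fun e => hone (by rw [e, one_smul])) (by rw [ho]; exact ht)
    (by rw [← conj_pow, hng, inv_pow])
  rcases hpow s with ⟨i1, -⟩ | ⟨i1, -⟩
  · rw [i1] at hσ; exact h1 hσ
  · rw [i1, G.al_add hl, G.al_self hl, one_mul] at hσ; exact h1 hσ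

end Dat

end Cfsg.Agent.Omega.NO3S.TwoOne.PG

end

-- merged: Cfsg.Agent.Omega.NO3S.TwoOne.PE.Base
section

/-!
# NO-3S, `TwoOne` / `CompP`, no `λ`-transvections, `|A| ≥ 4`: every S-pair partial is impossible
(helper409's text, bb OMEGA #19417, sections 2 and 3), pure form

`L` the line vectors, `A l` the elementary abelian groups, `I l` = `Ī_l`, `al l : M → A l` with kernel `Ē_l`.
An S-pair: `al l m ≠ 1`, `al m l ≠ 1`.

* `Dat.fix_cases` (S2) : `C_{A_l}(m) = {1, al l m}`;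
* `Dat.two_one` (2.1), `Dat.two_two` (2.2), `Dat.two_three` (2.3): `[m, A_l] ≤ S(al l m)`, where `S(b)` = `Dat.Sb` is the
  subspace `{m ∈ L | b ∈ A m} ∪ {0}`.
-/

set_option autoImplicit false
set_option linter.unusedSimpArgs false
set_option linter.unusedSectionVars false

namespace Cfsg.Agent.Omega.NO3S.TwoOne.PE

/-- the data of #19417, all S-pairs partial -/
structure Dat {M H : Type*} [AddCommGroup M] [Group H] [DistribMulAction H M] (L : Set M) (A : M → Subgroup H)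
    (I : M → AddSubgroup M) (al : M → M → H) : Prop where
  two : ∀ m : M, m + m = 0
  zero : (0 : M) ∉ L
  smul : ∀ (h : H) {l : M}, l ∈ L → h • l ∈ L
  trans : ∀ {l m : M}, l ∈ L → m ∈ L → ∃ h : H, h • l = m
  A_conj : ∀ (h : H) {l : M} {a : H}, l ∈ L → a ∈ A l → h * a * h⁻¹ ∈ A (h • l)
  I_conj : ∀ (h : H) {l u : M}, l ∈ L → u ∈ I l → h • u ∈ I (h • l)
  sq : ∀ {l : M} {a : H}, l ∈ L → a ∈ A l → a * a = 1
  self : ∀ {l : M}, l ∈ L → l ∈ I l
  comm : ∀ {l : M} {a : H}, l ∈ L → a ∈ A l → ∀ m : M, a • m + m ∈ I l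
  fix : ∀ {l : M} {a : H} {u : M}, l ∈ L → a ∈ A l → u ∈ I l → a • u = u
  al_mem : ∀ {l : M}, l ∈ L → ∀ m, al l m ∈ A l
  al_add : ∀ {l : M}, l ∈ L → ∀ m m', al l (m + m') = al l m * al l m'
  al_conj : ∀ {l : M} {h : H}, l ∈ L → h • l = l → ∀ m, al l (h • m) = h * al l m * h⁻¹
  al_ker : ∀ {l : M}, l ∈ L → ∀ m, al l m = 1 ↔ ∀ a ∈ A l, a • m = m ∨ a • m = m + l
  sy : ∀ {l : M}, l ∈ L → ∀ m m', al l m' • m + m + (al l m • m' + m') = 0 ∨
    al l m' • m + m + (al l m • m' + m') = l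
  phi : ∀ {l : M} {a : H}, l ∈ L → a ∈ A l → a ≠ 1 → ∃ e, al l e = 1 ∧ a • e = e + l
  /-- (0.1), planes -/
  plane : ∀ {l m : M} {a : H}, l ∈ L → m ∈ L → l ≠ m → a ≠ 1 → a ∈ A l → a ∈ A m → l + m ∈ L ∧ a ∈ A (l + m)
  /-- THEOREM P -/
  inj : ∀ {l m : M}, l ∈ L → m ∈ L → A l = A m → l = m
  /-- (S1) of #18607 -/
  s1 : ∀ {l m e : M}, l ∈ L → m ∈ L → al l m ≠ 1 → al m l ≠ 1 → al l e = 1 → al l m • e = e →
    ∃ j ∈ I m, al l j = 1 ∧ ∀ a ∈ A l, a • j + j = a • e + e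
  /-- Baer-Suzuki -/
  bs : ∀ {l : M} {a : H}, l ∈ L → a ∈ A l → a ≠ 1 → ∃ o : H, o ≠ 1 ∧ Odd (orderOf o) ∧ a * o * a⁻¹ = o⁻¹
  /-- SIGMA_k -/
  sigma : ∀ {l : M} {a o : H}, l ∈ L → a ∈ A l → a ≠ 1 → o ≠ 1 → Odd (orderOf o) → a * o * a⁻¹ = o⁻¹ →
    o * o * o = 1 ∧ a • (o • l) = o • l + l ∧ al l (o • l) = 1
  /-- every S-pair is partial -/
  part : ∀ {l m : M}, l ∈ L → m ∈ L → al l m ≠ 1 → al m l ≠ 1 →
    al l m • m = m ∧ ∀ a ∈ A l, al m (a • m + m) = 1

namespace Dat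

variable {M H : Type*} [AddCommGroup M] [Group H] [DistribMulAction H M] {L : Set M} {A : M → Subgroup H}
    {I : M → AddSubgroup M} {al : M → M → H}

section

variable (D : Dat L A I al)
include D

theorem two_left (x y : M) : x + (x + y) = y := by
  rw [← add_assoc, D.two, zero_add]

theorem eq_of_add {x y : M} (h : x + y = 0) : x = y := by
  have := D.two_left y x
  rw [add_comm y x, h, add_zero] at this
  exact this.symm

theorem inv {l : M} {a : H} (hl : l ∈ L) (ha : a ∈ A l) : a⁻¹ = a :=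
  inv_eq_of_mul_eq_one_left (D.sq hl ha)

theorem A_comm {l : M} {a b : H} (hl : l ∈ L) (ha : a ∈ A l) (hb : b ∈ A l) : a * b = b * a := by
  have h := D.sq hl (mul_mem ha hb)
  calc a * b = (a * b)⁻¹ := (inv_eq_of_mul_eq_one_left h).symm
    _ = b * a := by rw [mul_inv_rev, D.inv hl ha, D.inv hl hb]

/-- conjugate by an involution fixing `l` -/
theorem A_conj' {l : M} {a h : H} (hl : l ∈ L) (ha : a ∈ A l) (hh : h * h = 1) (hhl : h • l = l) :
    h * a * h ∈ A l := by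
  have := D.A_conj h hl ha
  rwa [hhl, inv_eq_of_mul_eq_one_left hh] at this

theorem A_fix {l : M} {a : H} (hl : l ∈ L) (ha : a ∈ A l) : a • l = l := D.fix hl ha (D.self hl)

theorem al_I_one {l u : M} (hl : l ∈ L) (hu : u ∈ I l) : al l u = 1 :=
  (D.al_ker hl u).2 fun _ ha => Or.inl (D.fix hl ha hu)

theorem ne_zero {l : M} (hl : l ∈ L) : l ≠ 0 := fun e => D.zero (e ▸ hl)

theorem al_zero {l : M} (hl : l ∈ L) : al l 0 = 1 := D.al_I_one hl (I l).zero_mem

/-- (0.1) -/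
theorem mem_I {l m : M} {a : H} (hl : l ∈ L) (hm : m ∈ L) (ha1 : a ≠ 1) (ha : a ∈ A l) (ha' : a ∈ A m) : m ∈ I l := by
  obtain ⟨e, -, he⟩ := D.phi hm ha' ha1
  have h := D.comm hl ha e
  rw [he, add_comm e m, add_assoc, D.two, add_zero] at h
  exact h

/-- `[ab, m] = [a, m] + [b, m]` -/
theorem K_mul {l : M} {a b : H} (hl : l ∈ L) (ha : a ∈ A l) (hb : b ∈ A l) (m : M) :
    (a * b) • m + m = (a • m + m) + (b • m + m) := by
  have h1 : a • (b • m + m) = b • m + m := D.fix hl ha (D.comm hl hb m)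
  rw [mul_smul]
  calc a • (b • m) + m = a • (b • m + m) + (a • m + m) := by
        rw [smul_add, add_assoc, ← add_assoc (a • m), D.two, zero_add]
    _ = (a • m + m) + (b • m + m) := by rw [h1, add_comm]

/-- a functional which kills `n` and not `a` -/
theorem exists_fun {l : M} {a n : H} (hl : l ∈ L) (ha : a ∈ A l) (hn : n ∈ A l) (ha1 : a ≠ 1) (han : a ≠ n) :
    ∃ e, al l e = 1 ∧ n • e = e ∧ a • e = e + l := by
  obtain ⟨e₁, h1, h2⟩ := D.phi hl ha ha1
  rcases (D.al_ker hl e₁).mp h1 n hn with h3 | h3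
  · exact ⟨e₁, h1, h3, h2⟩
  have hna : n * a ≠ 1 := by
    intro e
    apply han
    have := eq_inv_of_mul_eq_one_right e
    rwa [D.inv hl hn] at this
  obtain ⟨e₂, h4, h5⟩ := D.phi hl (mul_mem hn ha) hna
  have hnl := D.A_fix hl hn
  have hal := D.A_fix hl ha
  rcases (D.al_ker hl e₂).mp h4 a ha with h6 | h6
  · have h7 : n • e₂ = e₂ + l := by rw [mul_smul, h6] at h5; exact h5
    refine ⟨e₁ + e₂, by rw [D.al_add hl, h1, h4, one_mul], ?_, ?_⟩
    · rw [smul_add, h3, h7]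
      calc e₁ + l + (e₂ + l) = e₁ + e₂ + (l + l) := by abel
        _ = e₁ + e₂ := by rw [D.two, add_zero]
    · rw [smul_add, h2, h6]; abel
  · refine ⟨e₂, h4, ?_, h6⟩
    rw [mul_smul, h6, smul_add, hnl] at h5
    exact add_right_cancel h5

/-- **(S2)** -/
theorem fix_cases {l m : M} {a : H} (hl : l ∈ L) (hm : m ∈ L) (h : al l m ≠ 1) (h' : al m l ≠ 1) (ha : a ∈ A l)
    (ham : a • m = m) : a = 1 ∨ a = al l m := by
  by_contra hcon
  push Not at hcon
  obtain ⟨e, h1, h2, h3⟩ := D.exists_fun hl ha (D.al_mem hl m) hcon.1 hcon.2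
  obtain ⟨j, hj, -, hja⟩ := D.s1 hl hm h h' h1 h2
  have h4 := hja a ha
  rw [h3, add_comm e l, add_assoc, D.two, add_zero] at h4
  apply h'
  apply D.al_I_one hm
  rw [← h4]
  refine add_mem ?_ hj
  have := D.I_conj a hm hj
  rwa [ham] at this

/-- **(2.1)** -/
theorem two_one {l m : M} {a : H} (hl : l ∈ L) (hm : m ∈ L) (h : al l m ≠ 1) (h' : al m l ≠ 1) (ha : a ∈ A l) :
    al m l * a * al m l = a ∨ al m l * a * al m l = a * al l m := by
  set b := al l m with hb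
  set c := al m l with hc
  have hbA : b ∈ A l := D.al_mem hl m
  have hcA : c ∈ A m := D.al_mem hm l
  have hcc := D.sq hm hcA
  have hcl : c • l = l := (D.part hm hl h' h).1
  have haa := D.sq hl ha
  have hca : c * a * c ∈ A l := D.A_conj' hl ha hcc hcl
  by_contra hcon
  push Not at hcon
  have h1 : a * (c * a * c) ≠ 1 := by
    intro e
    apply hcon.1
    have := eq_inv_of_mul_eq_one_right e
    rwa [D.inv hl ha] at this
  have h2 : a * (c * a * c) ≠ b := by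
    intro e
    apply hcon.2
    rw [← e, ← mul_assoc, haa, one_mul]
  obtain ⟨e, h3, h4, h5⟩ := D.exists_fun hl (mul_mem ha hca) hbA h1 h2
  obtain ⟨j, hj, -, hja⟩ := D.s1 hl hm h h' h3 h4
  have h6 := hja _ (mul_mem ha hca)
  rw [h5, add_comm e l, add_assoc, D.two, add_zero] at h6
  -- `a (c a c) j = j`
  have h7 : c • j = j := D.fix hm hcA hj
  have h8 : a • j = j + (a • e + e) := by
    rw [← hja a ha, add_comm (a • j), ← add_assoc, D.two, zero_add]
  have h9 : ∀ x : H, x • l = l → x • (a • e + e) = a • e + e := by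
    intro x hx
    rcases (D.al_ker hl e).mp h3 a ha with e1 | e1
    · rw [e1, D.two, smul_zero]
    · rw [e1, add_comm e l, add_assoc, D.two, add_zero, hx]
  have h10 : (a * (c * a * c)) • j = j := by
    rw [mul_smul, mul_smul, mul_smul, h7, h8, smul_add, h7, h9 c hcl, smul_add, h9 a (D.A_fix hl ha), h8,
      add_assoc, D.two, add_zero]
  rw [h10, D.two] at h6
  exact D.ne_zero hl h6.symm

/-- `b` and `b₂` commute -/
theorem two_comm {l m : M} (hl : l ∈ L) (hm : m ∈ L) (h : al l m ≠ 1) (h' : al m l ≠ 1) :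
    al l m * al m l = al m l * al l m := by
  have hbA : al l m ∈ A l := D.al_mem hl m
  have hcA : al m l ∈ A m := D.al_mem hm l
  have hcc := D.sq hm hcA
  rcases D.two_one hl hm h h' hbA with e | e
  · calc al l m * al m l = (al m l * al l m * al m l) * al m l := by rw [e]
      _ = al m l * al l m * (al m l * al m l) := by group
      _ = al m l * al l m := by rw [hcc, mul_one]
  · exfalso
    apply h
    rw [D.sq hl hbA] at e
    calc al l m = al m l * (al m l * al l m * al m l) * al m l := by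
          calc al l m = (al m l * al m l) * al l m * (al m l * al m l) := by rw [hcc]; group
            _ = _ := by group
      _ = 1 := by rw [e, mul_one, hcc]

/-- `b₂` does not centralise `A l` -/
theorem two_move {l m : M} (hl : l ∈ L) (hm : m ∈ L) (h : al l m ≠ 1) (h' : al m l ≠ 1) :
    ∃ a ∈ A l, al m l * a * al m l = a * al l m := by
  by_contra hcon
  push Not at hcon
  have hcA : al m l ∈ A m := D.al_mem hm l
  have hcl : al m l • l = l := (D.part hm hl h' h).1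
  obtain ⟨e, -, he⟩ := D.phi hm hcA h'
  have h1 : al l (al m l • e) = al m l * al l e * (al m l)⁻¹ := D.al_conj hl hcl e
  have h2 := (D.two_one hl hm h h' (D.al_mem hl e)).resolve_right (hcon _ (D.al_mem hl e))
  rw [D.inv hm hcA, h2, he, D.al_add hl] at h1
  exact h (mul_eq_left.mp h1)

/-- **(2.2)** -/
theorem two_two {l m : M} {a : H} (hl : l ∈ L) (hm : m ∈ L) (h : al l m ≠ 1) (h' : al m l ≠ 1) (ha : a ∈ A l)
    (hac : al m l * a * al m l = a * al l m) : a • m + m ∈ L ∧ al l m ∈ A (a • m + m) := by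
  obtain ⟨a', ha', hac'⟩ := D.two_move hm hl h' h
  have hcomm := D.two_comm hl hm h h'
  set b := al l m with hb
  set c := al m l with hc
  have hbA : b ∈ A l := D.al_mem hl m
  have hcA : c ∈ A m := D.al_mem hm l
  have hbb := D.sq hl hbA
  have hcc := D.sq hm hcA
  have haa := D.sq hl ha
  have haa' := D.sq hm ha'
  have hai := D.inv hl ha
  have hai' := D.inv hm ha'
  -- `a c a = b c`
  have h1 : a * c * a⁻¹ = b * c := by
    have h2 : c * a = a * b * c := by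
      calc c * a = c * a * c * c := by rw [mul_assoc _ c c, hcc, mul_one]
        _ = a * b * c := by rw [hac]
    calc a * c * a⁻¹ = a * (c * a) := by rw [hai]; group
      _ = (a * a) * (b * c) := by rw [h2]; group
      _ = b * c := by rw [haa, one_mul]
  -- `a' b a' = b c`
  have h2 : a' * b * a'⁻¹ = b * c := by
    have h3 : b * a' = a' * c * b := by
      calc b * a' = b * a' * b * b := by rw [mul_assoc _ b b, hbb, mul_one]
        _ = a' * c * b := by rw [hac']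
    calc a' * b * a'⁻¹ = a' * (b * a') := by rw [hai']; group
      _ = (a' * a') * (c * b) := by rw [h3]; group
      _ = b * c := by rw [haa', one_mul, hcomm]
  have h3 : b * c ∈ A (a • m) := by rw [← h1]; exact D.A_conj a hm hcA
  have hmp := D.smul a hm
  have h4 : b ∈ A (a' • (a • m)) := by
    have h5 := D.A_conj a' hmp h3
    have h6 : a' * (b * c) * a'⁻¹ = b := by
      have h7 : a' * c * a'⁻¹ = c := by rw [D.A_comm hm ha' hcA, mul_inv_cancel_right]
      calc a' * (b * c) * a'⁻¹ = (a' * b * a'⁻¹) * (a' * c * a'⁻¹) := by group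
        _ = b * (c * c) := by rw [h2, h7]; group
        _ = b := by rw [hcc, mul_one]
    rwa [h6] at h5
  have hr := D.smul a' hmp
  set κ := a • m + m with hκ
  have hκI : κ ∈ I l := D.comm hl ha m
  have hκm : al m κ = 1 := (D.part hl hm h h').2 a ha
  have ham : a • m = m + κ := by rw [hκ, add_comm (a • m), D.two_left]
  -- `r = m + κ` or `r = κ`
  have hr1 : a' • (a • m) = m + κ ∨ a' • (a • m) = κ := by
    rw [ham, smul_add, D.A_fix hm ha']
    rcases (D.al_ker hm κ).mp hκm a' ha' with e | e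
    · left; rw [e]
    · right; rw [e, add_comm κ m, D.two_left]
  have hrl : l ≠ a' • (a • m) := by
    intro e
    apply h'
    have h5 : a • m = a' • l := by
      rw [e, ← mul_smul, haa', one_smul]
    have h6 : a' • l + l ∈ I m := D.comm hm ha' l
    have h7 : l = (m + κ) + (a' • l + l) := by
      rw [← ham, h5, D.two_left]
    have h8 : al m l = 1 := by
      rw [h7, D.al_add hm, D.al_add hm, D.al_I_one hm (D.self hm), hκm, D.al_I_one hm h6]
      simp
    exact h8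
  have hrI : a' • (a • m) ∈ I l := D.mem_I hl hr h hbA h4
  rcases hr1 with e | e
  · exfalso
    apply h
    apply D.al_I_one hl
    rw [e] at hrI
    have := add_mem hrI hκI
    rwa [add_assoc, D.two, add_zero] at this
  · rw [e] at hr h4
    exact ⟨hr, h4⟩

/-- `S(b)` -/
def Sb {b : H} (hb : b ≠ 1) : AddSubgroup M where
  carrier := {m | m = 0 ∨ (m ∈ L ∧ b ∈ A m)}
  zero_mem' := Or.inl rfl
  add_mem' := by
    rintro x y (rfl | ⟨hx, hx'⟩) (rfl | ⟨hy, hy'⟩)
    · left; simp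
    · right; rw [zero_add]; exact ⟨hy, hy'⟩
    · right; rw [add_zero]; exact ⟨hx, hx'⟩
    · by_cases hxy : x = y
      · left; rw [hxy, D.two]
      · right; exact D.plane hx hy hxy hb hx' hy'
  neg_mem' := by
    intro x hx
    have : -x = x := neg_eq_of_add_eq_zero_right (D.two x)
    rwa [this]

theorem mem_Sb {b : H} (hb : b ≠ 1) {m : M} : m ∈ D.Sb hb ↔ m = 0 ∨ (m ∈ L ∧ b ∈ A m) := Iff.rfl

/-- **(2.3)** -/
theorem two_three {l m : M} {a : H} (hl : l ∈ L) (hm : m ∈ L) (h : al l m ≠ 1) (h' : al m l ≠ 1) (ha : a ∈ A l) :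
    a • m + m ∈ D.Sb h := by
  have key : ∀ {x : H}, x ∈ A l → al m l * x * al m l = x * al l m → x • m + m ∈ D.Sb h :=
    fun {x} hx e => Or.inr (D.two_two hl hm h h' hx e)
  rcases D.two_one hl hm h h' ha with e | e
  · obtain ⟨a₁, ha₁, e₁⟩ := D.two_move hl hm h h'
    have hcc := D.sq hm (D.al_mem hm l)
    have h1 : (a * a₁) • m + m ∈ D.Sb h := by
      refine key (mul_mem ha ha₁) ?_
      calc al m l * (a * a₁) * al m l = (al m l * a * al m l) * (al m l * a₁ * al m l) := by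
            calc al m l * (a * a₁) * al m l = al m l * a * 1 * a₁ * al m l := by group
              _ = al m l * a * (al m l * al m l) * a₁ * al m l := by rw [hcc]
              _ = _ := by group
        _ = a * a₁ * al l m := by rw [e, e₁]; group
    have h2 := add_mem h1 (key ha₁ e₁)
    rw [D.K_mul hl ha ha₁, add_assoc, D.two, add_zero] at h2
    exact h2
  · exact key ha e

theorem card_A [Finite H] {l m : M} (hl : l ∈ L) (hm : m ∈ L) : Nat.card (A l) ≤ Nat.card (A m) := by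
  obtain ⟨h, rfl⟩ := D.trans hl hm
  let f : A l → A (h • l) := fun a => ⟨h * a * h⁻¹, D.A_conj h hl a.2⟩
  refine Nat.card_le_card_of_injective f fun a b hab => ?_
  have e : h * (a : H) * h⁻¹ = h * b * h⁻¹ := congrArg Subtype.val hab
  exact Subtype.ext (mul_left_cancel (mul_right_cancel e))

/-- THEOREM P, one inclusion -/
theorem inj_le [Finite H] {l m : M} (hl : l ∈ L) (hm : m ∈ L) (h : A l ≤ A m) : l = m :=
  D.inj hl hm (Subgroup.eq_of_le_of_card_ge h (D.card_A hm hl))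

end

end Dat

end Cfsg.Agent.Omega.NO3S.TwoOne.PE

end

-- merged: Cfsg.Agent.Omega.NO3S.TwoOne.PE.Main
section

/-!
# NO-3S, `TwoOne` / `CompP`, no `λ`-transvections, `|A| ≥ 4`: every S-pair partial is impossible
(helper409's text, bb OMEGA #19417, section 3), pure form

* `Dat.exists_three` : `b ∈ A l`, `l, m, m' ∈ S(b)` independent;
* `Dat.false` : no S-pair.
-/

set_option autoImplicit false
set_option linter.unusedSimpArgs false
set_option linter.unusedSectionVars false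

namespace Cfsg.Agent.Omega.NO3S.TwoOne.PE.Dat

variable {M H : Type*} [AddCommGroup M] [Group H] [DistribMulAction H M] {L : Set M} {A : M → Subgroup H}
    {I : M → AddSubgroup M} {al : M → M → H}

theorem conj_smul_smul (g x : H) (v : M) : g • x • v = (g * x * g⁻¹) • g • v := by
  rw [mul_smul, mul_smul, inv_smul_smul]

/-- `b` and the odd element `o` -/
structure Odd3 (b o : H) : Prop where
  o1 : o ≠ 1
  odd : Odd (orderOf o)
  inv : b * o * b⁻¹ = o⁻¹
  b1 : b ≠ 1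

section

variable (D : Dat L A I al)
include D

/-- SIGMA_k for `o` -/
theorem sg {l : M} {b o : H} (E : Odd3 b o) (hl : l ∈ L) (hb : b ∈ A l) :
    o * o * o = 1 ∧ b • (o • l) = o • l + l ∧ al l (o • l) = 1 := D.sigma hl hb E.b1 E.o1 E.odd E.inv

/-- SIGMA_k for `o⁻¹` -/
theorem sg' {l : M} {b o : H} (E : Odd3 b o) (hl : l ∈ L) (hb : b ∈ A l) :
    b • (o⁻¹ • l) = o⁻¹ • l + l ∧ al l (o⁻¹ • l) = 1 := by
  refine (D.sigma hl hb E.b1 (fun e => E.o1 (inv_eq_one.mp e)) ?_ ?_).2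
  · rw [orderOf_inv]; exact E.odd
  · rw [← E.inv]
    have := E.inv
    calc b * (b * o * b⁻¹) * b⁻¹ = b * o⁻¹ * b⁻¹ := by rw [this]
      _ = (b * o * b⁻¹)⁻¹ := by group
      _ = (b * o * b⁻¹)⁻¹ := rfl

/-- `l ≠ m` in `S(b)`: `(l, o m)` is an S-pair -/
theorem sp1 {l m : M} {b o : H} (E : Odd3 b o) (hl : l ∈ L) (hm : m ∈ L) (hlm : l ≠ m) (hb : b ∈ A l)
    (hb' : b ∈ A m) : al l (o • m) ≠ 1 := by
  intro h
  have h1 := (D.sg E hm hb').2.1
  rcases (D.al_ker hl _).mp h b hb with e | e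
  · rw [h1] at e
    exact D.ne_zero hm (by simpa using e)
  · rw [h1] at e
    exact hlm (add_left_cancel e).symm

theorem sp2 {l m : M} {b o : H} (E : Odd3 b o) (hl : l ∈ L) (hm : m ∈ L) (hlm : l ≠ m) (hb : b ∈ A l)
    (hb' : b ∈ A m) : al (o • m) l ≠ 1 := by
  intro h
  have h1 := (D.sg' E hl hb).1
  have h2 : (o * b * o⁻¹) • l = l + o • l := by
    rw [mul_smul, mul_smul, h1, smul_add, smul_inv_smul]
  rcases (D.al_ker (D.smul o hm) _).mp h _ (D.A_conj o hm hb') with e | e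
  · rw [h2] at e
    exact D.ne_zero (D.smul o hl) (by simpa using e)
  · rw [h2] at e
    have h3 := add_left_cancel e
    exact hlm (smul_left_cancel o h3)

/-- the facts on `c = al l (o m)`, `l ≠ m` in `S(b)` -/
structure CC (b o : H) (l m : M) (A : M → Subgroup H) (al : M → M → H) (c : H) : Prop where
  eq : c = al l (o • m)
  ne : c ≠ 1
  mem : c ∈ A l
  mem' : c ∈ A m
  neb : c ≠ b
  fm : c • (o • m) = o • m
  fl : c • (o • l) = o • l
  /-- `c₁ = o c o⁻¹`, `c₂ = o⁻¹ c o` -/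
  prod : c = (o * c * o⁻¹) * (o⁻¹ * c * o)
  swap : b * (o * c * o⁻¹) * b = o⁻¹ * c * o

theorem cc [Finite H] {l m : M} {b o : H} (E : Odd3 b o) (hl : l ∈ L) (hm : m ∈ L) (hlm : l ≠ m) (hb : b ∈ A l)
    (hb' : b ∈ A m) : CC b o l m A al (al l (o • m)) := by
  have hom := D.smul o hm
  have hol := D.smul o hl
  have hn := D.sp1 E hl hm hlm hb hb'
  have hn' := D.sp2 E hl hm hlm hb hb'
  have hooo := (D.sg E hl hb).1
  have hbl := (D.sg E hl hb).2.1
  have hbm := (D.sg E hm hb').2.1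
  have hbb := D.sq hl hb
  have hbi := D.inv hl hb
  obtain ⟨c, hc⟩ : ∃ c, c = al l (o • m) := ⟨_, rfl⟩
  have hcA : c ∈ A l := by rw [hc]; exact D.al_mem hl _
  have hc1 : c ≠ 1 := by rw [hc]; exact hn
  have hfm : c • (o • m) = o • m := by rw [hc]; exact (D.part hl hom hn hn').1
  have hneb : c ≠ b := by
    intro e
    rw [e, hbm] at hfm
    exact D.ne_zero hm (by simpa using hfm)
  -- `c ∈ A m`
  have hcm : c ∈ A m := by
    have h1 := D.two_three hl hom hn hn' hb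
    rw [hbm] at h1
    have h2 : o • m + m + o • m = m := by
      calc o • m + m + o • m = m + (o • m + o • m) := by abel
        _ = m := by rw [D.two, add_zero]
    rw [h2] at h1
    rcases h1 with e | e
    · exact absurd e (D.ne_zero hm)
    · rw [hc]; exact e.2
  -- `c` fixes `o l`
  have hfl : c • (o • l) = o • l := by
    obtain ⟨hlmL, hclm⟩ := D.plane hl hm hlm hc1 hcA hcm
    obtain ⟨-, hblm⟩ := D.plane hl hm hlm E.b1 hb hb'
    rcases (D.al_ker hl _).mp (D.sg E hl hb).2.2 c hcA with e | e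
    · exact e
    · exfalso
      have h1 : c • (o • (l + m)) = o • (l + m) + l := by
        rw [smul_add, smul_add, e, hfm]; abel
      rcases (D.al_ker hlmL _).mp (D.sg E hlmL hblm).2.2 c hclm with e' | e'
      · rw [h1] at e'
        exact D.ne_zero hl (by simpa using e')
      · rw [h1] at e'
        have h2 := add_left_cancel e'
        have h3 : m = 0 := by
          have : l + 0 = l + m := by rw [add_zero]; exact h2
          exact (add_left_cancel this).symm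
        exact D.ne_zero hm h3
  have hcb : c * b = b * c := D.A_comm hl hcA hb
  have hcc := D.sq hl hcA
  have hci := D.inv hl hcA
  -- `b o b = o⁻¹`
  have hbo : b * o = o⁻¹ * b := by
    have := E.inv
    rw [← this]; group
  have hbo' : b * o⁻¹ = o * b := by
    calc b * o⁻¹ = b * (o⁻¹ * b) * b := by
          calc b * o⁻¹ = b * o⁻¹ * (b * b) := by rw [hbb, mul_one]
            _ = b * (o⁻¹ * b) * b := by group
      _ = b * (b * o) * b := by rw [hbo]
      _ = (b * b) * (o * b) := by group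
      _ = o * b := by rw [hbb, one_mul]
  have hfl' : c • (o⁻¹ • l) = o⁻¹ • l := by
    have h1 : o⁻¹ • l = b • (o • l) := by
      calc o⁻¹ • l = (o⁻¹ * b) • l := by rw [mul_smul, D.A_fix hl hb]
        _ = b • (o • l) := by rw [← hbo, mul_smul]
    rw [h1, ← mul_smul, hcb, mul_smul, hfl]
  have hswap : b * (o * c * o⁻¹) * b = o⁻¹ * c * o := by
    calc b * (o * c * o⁻¹) * b = (b * o) * c * (o⁻¹ * b) := by group
      _ = (o⁻¹ * b) * c * (b * o) := by rw [hbo]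
      _ = o⁻¹ * (b * c) * b * o := by group
      _ = o⁻¹ * (c * b) * b * o := by rw [hcb]
      _ = o⁻¹ * c * (b * b) * o := by group
      _ = o⁻¹ * c * o := by rw [hbb, mul_one]
  set c₁ := o * c * o⁻¹ with hc₁
  set c₂ := o⁻¹ * c * o with hc₂
  have hc₁A : c₁ ∈ A (o • l) := D.A_conj o hl hcA
  have hc₁c₁ := D.sq hol hc₁A
  have hc₁i := D.inv hol hc₁A
  have hc₁l : c₁ • l = l := by
    rw [hc₁, mul_smul, mul_smul, hfl', smul_inv_smul]
  -- `A l ∩ A (o l) = 1`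
  have htriv : ∀ x, x ∈ A l → x ∈ A (o • l) → x = 1 := by
    intro x hx hx'
    by_contra hx1
    have h1 := D.mem_I hl hol hx1 hx hx'
    have h2 := D.fix hl hb h1
    rw [hbl] at h2
    exact D.ne_zero hl (by simpa using h2)
  have hcc₁ : c * c₁ = c₁ * c := by
    have h1 : c₁ * c * c₁ ∈ A l := D.A_conj' hl hcA hc₁c₁ hc₁l
    have h2 : c * c₁ * c ∈ A (o • l) := D.A_conj' hol hc₁A hcc hfl
    have h3 : c * (c₁ * c * c₁) = 1 := by
      refine htriv _ (mul_mem hcA h1) ?_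
      have : (c * c₁ * c) * c₁ ∈ A (o • l) := mul_mem h2 hc₁A
      have e : c * (c₁ * c * c₁) = (c * c₁ * c) * c₁ := by group
      rw [e]; exact this
    calc c * c₁ = c * c₁ * (c * (c₁ * c * c₁))⁻¹ := by rw [h3, inv_one, mul_one]
      _ = c₁⁻¹ * c⁻¹ := by group
      _ = c₁ * c := by rw [hc₁i, hci]
  -- `c₁ c₂ ∈ A l`
  have hc₁c₂ : c₁ * c₂ ∈ A l := by
    have h1 : c₁ * b * c₁ ∈ A l := D.A_conj' hl hb hc₁c₁ hc₁l
    have h2 : c₁ * c₂ = (c₁ * b * c₁) * b := by rw [← hswap]; group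
    rw [h2]; exact mul_mem h1 hb
  -- `c₂ c ∈ A (o l)`
  have hoi : o * o = o⁻¹ := eq_inv_of_mul_eq_one_left hooo
  have hoi' : o⁻¹ * o⁻¹ = o := by
    rw [← mul_inv_rev, hoi, inv_inv]
  have hc₂c : c₂ * c ∈ A (o • l) := by
    have h1 := D.A_conj o hl hc₁c₂
    have h2 : o * (c₁ * c₂) * o⁻¹ = c₂ * c := by
      calc o * (c₁ * c₂) * o⁻¹ = (o * o) * c * (o⁻¹ * o⁻¹) * (o * o⁻¹) * c * (o * o⁻¹) := by
            rw [hc₁, hc₂]; group
        _ = c₂ * c := by rw [hoi, hoi', hc₂]; group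
    rwa [h2] at h1
  have hprod : c * (c₁ * c₂) = 1 := by
    refine htriv _ (mul_mem hcA hc₁c₂) ?_
    have h1 : c * (c₁ * c₂) = c₁ * (c₂ * c) := by
      rw [D.A_comm hl hcA hc₁c₂]; group
    rw [h1]; exact mul_mem hc₁A hc₂c
  have hcp : c = c₁ * c₂ := by
    have := eq_inv_of_mul_eq_one_right hprod
    rw [hci] at this
    exact this.symm
  rw [← hc]
  exact ⟨hc, hc1, hcA, hcm, hneb, hfm, hfl, hcp, hswap⟩

/-- (3.3): `D = [c, o m']` is fixed by `o` and lies in `S(c')` -/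
theorem dd [Finite H] {l m m' : M} {b o : H} (E : Odd3 b o) (hl : l ∈ L) (hm : m ∈ L) (hm' : m' ∈ L)
    (hlm : l ≠ m) (hlm' : l ≠ m') (hb : b ∈ A l) (hbm : b ∈ A m) (hbm' : b ∈ A m')
    (hne : al l (o • m) ≠ al l (o • m')) :
    al l (o • m) • (o • m') + o • m' ∈ L ∧ al l (o • m') ∈ A (al l (o • m) • (o • m') + o • m') ∧
      o • (al l (o • m) • (o • m') + o • m') = al l (o • m) • (o • m') + o • m' := by
  have C := D.cc E hl hm hlm hb hbm
  have hom' := D.smul o hm'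
  have hol := D.smul o hl
  have hn := D.sp1 E hl hm' hlm' hb hbm'
  have hn' := D.sp2 E hl hm' hlm' hb hbm'
  obtain ⟨c, hc⟩ : ∃ c, c = al l (o • m) := ⟨_, rfl⟩
  rw [← hc] at C hne ⊢
  have hooo := (D.sg E hl hb).1
  have hoi : o * o = o⁻¹ := eq_inv_of_mul_eq_one_left hooo
  have hoi' : o⁻¹ * o⁻¹ = o := by
    rw [← mul_inv_rev, hoi, inv_inv]
  have hbb := D.sq hl hb
  have hbi := D.inv hl hb
  set v := o • m' with hv
  set c₁ := o * c * o⁻¹ with hc₁
  set c₂ := o⁻¹ * c * o with hc₂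
  have hc₁A : c₁ ∈ A (o • l) := D.A_conj o hl C.mem
  have hb₁A : o * b * o⁻¹ ∈ A (o • l) := D.A_conj o hl hb
  have hvI : v ∈ I (o • l) := D.I_conj o hl (D.mem_I hl hm' E.b1 hb hbm')
  have hc₁v : c₁ • v = v := D.fix hol hc₁A hvI
  have hb₁v : (o * b * o⁻¹) • v = v := D.fix hol hb₁A hvI
  have hci := D.inv hl C.mem
  have hc₁i := D.inv hol hc₁A
  -- `c = c₂ c₁`
  have hc₂i : c₂⁻¹ = c₂ := by
    calc c₂⁻¹ = o⁻¹ * c⁻¹ * o := by rw [hc₂]; group
      _ = c₂ := by rw [hci]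
  have hp : c = c₂ * c₁ := by
    have h1 : c⁻¹ = c₂ * c₁ := by
      have h2 := congrArg (fun x => x⁻¹) C.prod
      rw [_root_.mul_inv_rev, hc₁i, hc₂i] at h2
      exact h2
    rwa [hci] at h1
  have hcv : c • v = c₂ • v := by
    rw [hp, mul_smul, hc₁v]
  have hD0 : c • v + v ≠ 0 := by
    intro e
    rcases D.fix_cases hl hom' hn hn' C.mem (D.eq_of_add e) with e1 | e1
    · exact C.ne e1
    · exact hne e1
  have hDS := D.two_three hl hom' hn hn' C.mem
  have hDS' := hDS.resolve_left hD0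
  refine ⟨hDS'.1, hDS'.2, ?_⟩
  -- `b` fixes `D`
  have hbD : b • (c • v + v) = c • v + v := D.fix hl hb (D.comm hl C.mem v)
  -- `b₁ c₂ b₁⁻¹ = c`
  have hb₁c₂ : (o * b * o⁻¹) * c₂ * (o * b * o⁻¹)⁻¹ = c := by
    calc (o * b * o⁻¹) * c₂ * (o * b * o⁻¹)⁻¹ = o * b * (o⁻¹ * o⁻¹) * c * (o * o) * b⁻¹ * o⁻¹ := by
          rw [hc₂]; group
      _ = o * (b * (o * c * o⁻¹) * b) * o⁻¹ := by rw [hoi, hoi', hbi]; group
      _ = o * (o⁻¹ * c * o) * o⁻¹ := by rw [C.swap]
      _ = c := by group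
  have hb₁D : (o * b * o⁻¹) • (c • v + v) = c • v + v := by
    rw [smul_add, hb₁v, hcv]
    have h1 : (o * b * o⁻¹) • c₂ • v = c • v := by
      calc (o * b * o⁻¹) • c₂ • v = ((o * b * o⁻¹) * c₂ * (o * b * o⁻¹)⁻¹) • ((o * b * o⁻¹) • v) :=
            conj_smul_smul _ _ _
        _ = c • v := by rw [hb₁c₂, hb₁v]
    rw [h1, hcv]
  generalize c • v + v = d at hbD hb₁D
  -- `o b o⁻¹ d = d`, `b d = d`
  have hbo' : b * o⁻¹ = o * b := by
    have hbo : b * o = o⁻¹ * b := by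
      have := E.inv
      rw [← this]; group
    calc b * o⁻¹ = b * (o⁻¹ * b) * b := by
          calc b * o⁻¹ = b * o⁻¹ * (b * b) := by rw [hbb, mul_one]
            _ = b * (o⁻¹ * b) * b := by group
      _ = b * (b * o) * b := by rw [hbo]
      _ = (b * b) * (o * b) := by group
      _ = o * b := by rw [hbb, one_mul]
  have h1 : (o * o) • d = d := by
    calc (o * o) • d = (o * (o * b)) • d := by
          rw [← mul_assoc, mul_smul (o * o) b, hbD]
      _ = (o * b * o⁻¹) • d := by rw [mul_assoc o b, hbo']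
      _ = d := hb₁D
  rw [hoi] at h1
  calc o • d = o • (o⁻¹ • d) := by rw [h1]
    _ = d := smul_inv_smul o d

/-- three independent elements of `S(b)`: contradiction -/
theorem three_false [Finite H] {l m m' : M} {b : H} (hl : l ∈ L) (hm : m ∈ L) (hm' : m' ∈ L) (hlm : l ≠ m)
    (hlm' : l ≠ m') (hmm : m ≠ m') (hmm' : l ≠ m + m') (hb1 : b ≠ 1) (hb : b ∈ A l) (hbm : b ∈ A m)
    (hbm' : b ∈ A m') : False := by
  obtain ⟨o, ho1, hodd, hinv⟩ := D.bs hl hb hb1
  have E : Odd3 b o := ⟨ho1, hodd, hinv, hb1⟩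
  obtain ⟨hsL, hsb⟩ := D.plane hm hm' hmm hb1 hbm hbm'
  -- `c ≠ c'`
  have hne : al l (o • m) ≠ al l (o • m') := by
    intro e
    apply D.sp1 E hl hsL hmm' hb hsb
    rw [smul_add, D.al_add hl, e]
    exact D.sq hl (D.al_mem hl _)
  have C := D.cc E hl hm hlm hb hbm
  obtain ⟨hD1, hD2, hD3⟩ := D.dd E hl hm hm' hlm hlm' hb hbm hbm' hne
  obtain ⟨hD1', hD2', hD3'⟩ := D.dd E hl hm' hm hlm' hlm hb hbm' hbm (Ne.symm hne)
  have hom' := D.smul o hm'
  -- `D = D'`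
  have hDD : al l (o • m) • (o • m') + o • m' = al l (o • m') • (o • m) + o • m := by
    rcases D.sy hl (o • m') (o • m) with e | e
    · exact D.eq_of_add e
    · exfalso
      have h1 : o • l = l := by
        rw [← e, smul_add, hD3, hD3']
      have h2 := (D.sg E hl hb).2.1
      rw [h1, D.A_fix hl hb, D.two] at h2
      exact D.ne_zero hl h2
  obtain ⟨d, hd⟩ : ∃ d, d = al l (o • m) • (o • m') + o • m' := ⟨_, rfl⟩
  rw [← hDD] at hD2'
  rw [← hd] at hD1 hD2 hD3 hD2'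
  -- `m' ∈ I d`
  have hc'm' : al l (o • m') ∈ A m' := (D.cc E hl hm' hlm' hb hbm').mem'
  have hc'1 := D.sp1 E hl hm' hlm' hb hbm'
  have h1 : m' ∈ I d := D.mem_I hD1 hm' hc'1 hD2 hc'm'
  have h2 : o • m' ∈ I d := by
    have := D.I_conj o hD1 h1
    rwa [hD3] at this
  have h3 := D.fix hD1 hD2' h2
  rw [h3, D.two] at hd
  exact D.ne_zero hD1 hd

/-- **THEOREM** (#19417, sections 2, 3): every S-pair partial: there is no S-pair -/
theorem false [Finite H] {l m : M} (hl : l ∈ L) (hm : m ∈ L) (h : al l m ≠ 1) (h' : al m l ≠ 1) : False := by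
  obtain ⟨a₁, ha₁, e₁⟩ := D.two_move hl hm h h'
  obtain ⟨hk, hbk⟩ := D.two_two hl hm h h' ha₁ e₁
  set b := al l m with hb
  set κ := a₁ • m + m with hκ
  have hbA : b ∈ A l := D.al_mem hl m
  have hκm : al m κ = 1 := (D.part hl hm h h').2 a₁ ha₁
  have hlκ : l ≠ κ := fun e => h' (by rw [e]; exact hκm)
  by_cases hex : ∃ a ∈ A l, a • m + m ≠ 0 ∧ a • m + m ≠ κ
  · obtain ⟨a, ha, h0, h1⟩ := hex
    have h2 := (D.two_three hl hm h h' ha).resolve_left h0
    have h3 : al m (a • m + m) = 1 := (D.part hl hm h h').2 a ha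
    refine D.three_false hl hk h2.1 hlκ (fun e => h' (by rw [e]; exact h3)) (Ne.symm h1) (fun e => h' ?_) h hbA hbk h2.2
    rw [e, D.al_add hm, hκm, h3, one_mul]
  · push Not at hex
    -- `A l = {1, b, a₁, a₁ b}`
    obtain ⟨o, ho1, hodd, hinv⟩ := D.bs hl hbA h
    have E : Odd3 b o := ⟨ho1, hodd, hinv, h⟩
    have C := D.cc E hl hk hlκ hbA hbk
    set n := al l (o • κ) with hn
    have key : ∀ a ∈ A l, (a = 1 ∨ a = b) ∨ (a * a₁ = 1 ∨ a * a₁ = b) := by
      intro a ha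
      by_cases h0 : a • m + m = 0
      · left; exact D.fix_cases hl hm h h' ha (D.eq_of_add h0)
      · right
        have h1 := hex a ha h0
        refine D.fix_cases hl hm h h' (mul_mem ha ha₁) ?_
        have h2 := D.K_mul hl ha ha₁ m
        rw [h1, ← hκ, D.two] at h2
        exact D.eq_of_add h2
    have ha₁κ : a₁ ∈ A κ := by
      rcases key n C.mem with (e | e) | (e | e)
      · exact absurd e C.ne
      · exact absurd e C.neb
      · have : a₁ = n := by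
          have := eq_inv_of_mul_eq_one_right e
          rwa [D.inv hl C.mem] at this
        rw [this]; exact C.mem'
      · have : a₁ = n * b := by
          rw [← e, ← mul_assoc, D.sq hl C.mem, one_mul]
        rw [this]; exact mul_mem C.mem' hbk
    apply hlκ
    refine D.inj_le hl hk fun a ha => ?_
    rcases key a ha with (e | e) | (e | e)
    · rw [e]; exact one_mem _
    · rw [e]; exact hbk
    · have : a = a₁ := by
        have := eq_inv_of_mul_eq_one_left e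
        rwa [D.inv hl ha₁] at this
      rw [this]; exact ha₁κ
    · have : a = b * a₁ := by
        rw [← e, mul_assoc, D.sq hl ha₁, mul_one]
      rw [this]; exact mul_mem hbk ha₁κ

end

end Cfsg.Agent.Omega.NO3S.TwoOne.PE.Dat

end

-- merged: Cfsg.Agent.Omega.NO3S.TwoOne.PP.Base
section

/-!
# NO-3S, `TwoOne` / `CompP`, `k ≥ 2`, planes allowed (helper409's #19417), pure form: the structure

`H` acts on the elementary abelian 2-group `M`; `L` = the line vectors, `A l`, `I l`, `al l` (`l ∈ L`) the data of the line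
`l`; `E l = {m | al l m = 1}`, `D l` = the vectors fixed by `A l`.  S-pair: `al l m ≠ 1`, `al m l ≠ 1`.

* `Gen` : the fields (0.1)-(0.7) of #19417 (SIGMA is a theorem: `PP/Sigma.lean`)
* `Gen.inter`, `Gen.tri`, `Gen.inj` : `A l ∩ A m ≠ 1` ⟹ `m ∈ I l`, `l + m ∈ L`, `A l ∩ A m ≤ A (l + m)`; `A l ≤ A m` ⟹ `l = m`
* `Gen.disj` : an S-pair has `A l ∩ A m = 1`
* `Gen.sep` : for `x ∈ A l` not in the subgroup `⟨s⟩` of `A l` some `e ∈ E l` is fixed by `s`, not by `x`
-/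

set_option autoImplicit false
set_option linter.unusedSimpArgs false

namespace Cfsg.Agent.Omega.NO3S.TwoOne.PP

/-- the fields of #19417 (planes allowed) -/
structure Gen {M H : Type*} [AddCommGroup M] [Group H] [DistribMulAction H M] (L : Set M) (A : M → Subgroup H)
    (I : M → AddSubgroup M) (al : M → M → H) : Prop where
  two : ∀ m : M, m + m = 0
  zero : (0 : M) ∉ L
  gen : AddSubgroup.closure L = ⊤
  smul : ∀ (h : H) {l : M}, l ∈ L → h • l ∈ L
  trans : ∀ {l m : M}, l ∈ L → m ∈ L → ∃ h : H, h • l = m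
  A_conj : ∀ (h : H) {l : M} {a : H}, l ∈ L → a ∈ A l → h * a * h⁻¹ ∈ A (h • l)
  I_conj : ∀ (h : H) {l u : M}, l ∈ L → u ∈ I l → h • u ∈ I (h • l)
  sq : ∀ {l : M} {a : H}, l ∈ L → a ∈ A l → a * a = 1
  four : ∀ {l : M}, l ∈ L → 4 ≤ Nat.card (A l)
  self : ∀ {l : M}, l ∈ L → l ∈ I l
  comm : ∀ {l : M} {a : H}, l ∈ L → a ∈ A l → ∀ m : M, a • m + m ∈ I l
  fix : ∀ {l : M} {a : H} {u : M}, l ∈ L → a ∈ A l → u ∈ I l → a • u = u
  al_mem : ∀ {l : M}, l ∈ L → ∀ m, al l m ∈ A l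
  al_add : ∀ {l : M}, l ∈ L → ∀ m m', al l (m + m') = al l m * al l m'
  al_surj : ∀ {l : M} {a : H}, l ∈ L → a ∈ A l → ∃ m, al l m = a
  al_smul : ∀ (h : H) {l : M}, l ∈ L → ∀ m, al (h • l) (h • m) = h * al l m * h⁻¹
  al_ker : ∀ {l : M}, l ∈ L → ∀ m, al l m = 1 ↔ ∀ a ∈ A l, a • m = m ∨ a • m = m + l
  sy : ∀ {l : M}, l ∈ L → ∀ m m', al l m' • m + m + (al l m • m' + m') = 0 ∨
    al l m' • m + m + (al l m • m' + m') = l
  phi : ∀ {l : M} {a : H}, l ∈ L → a ∈ A l → a ≠ 1 → ∃ e, al l e = 1 ∧ a • e = e + l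
  /-- (FU) -/
  Kt : ∀ {l u : M}, l ∈ L → u ∈ I l → u ≠ 0 → u ≠ l → ∃ c : H, c • l = l ∧ c • u = u + l ∧ ∀ a ∈ A l, c * a = a * c
  /-- THEOREM P -/
  nrm : ∀ {l : M} {h : H}, l ∈ L → (∀ a ∈ A l, h * a * h⁻¹ ∈ A l) → h • l = l
  /-- (S1) -/
  s1 : ∀ {l m : M}, l ∈ L → m ∈ L → al l m ≠ 1 → al m l ≠ 1 → ∀ e, al l e = 1 → al l m • e = e →
    ∃ j ∈ I m, al l j = 1 ∧ ∀ b ∈ A l, b • j + j = b • e + e
  /-- (S3) -/
  s3 : ∀ {l m : M}, l ∈ L → m ∈ L → al l m ≠ 1 → al m l ≠ 1 → (∃ a ∈ A l, al m (a • m + m) ≠ 1) →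
    ∀ e, al l e = 1 → ∃ j ∈ I m, al l j = 1 ∧ ∀ b ∈ A l, b • j + j = b • e + e
  /-- ALPHA -/
  alpha : ∀ {l m : M}, l ∈ L → m ∈ L → al l m ≠ 1 → al m l ≠ 1 → ∀ u ∈ I l, u ∈ I m → u ≠ 0 → al l m • m = m
  /-- KAPPA -/
  kappa : ∀ {l m : M}, l ∈ L → m ∈ L → al l m ≠ 1 → al m l ≠ 1 → ∀ x, al l x • x ≠ x → al l x • x ≠ x + l →
    al m (al l x • m + m + l) ≠ 1 → ∃ u ∈ I l, u ∈ I m ∧ u ≠ 0
  /-- Baer-Suzuki -/
  bs : ∀ {l : M} {a : H}, l ∈ L → a ∈ A l → a ≠ 1 → ∃ o : H, o ≠ 1 ∧ Odd (orderOf o) ∧ a * o * a = o⁻¹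

namespace Gen

variable {M H : Type*} [AddCommGroup M] [Group H] [DistribMulAction H M] {L : Set M} {A : M → Subgroup H}
    {I : M → AddSubgroup M} {al : M → M → H} (G : Gen L A I al)
include G

theorem two_left (x y : M) : x + (x + y) = y := by
  rw [← add_assoc, G.two, zero_add]

theorem two_right (x y : M) : x + y + y = x := by
  rw [add_assoc, G.two, add_zero]

theorem eq_of_add {x y : M} (h : x + y = 0) : x = y := by
  rw [← G.two_right x y, h, zero_add]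

theorem eq_add_of {x y v : M} (h : x + y = v) : x = y + v := by
  rw [← h, add_comm x y, G.two_left]

theorem ne_zero {l : M} (hl : l ∈ L) : l ≠ 0 := fun e => G.zero (e ▸ hl)

theorem add_ne {l : M} (hl : l ∈ L) (m : M) : m + l ≠ m := fun e => G.ne_zero hl (by
  have : m + l = m + 0 := by rw [e, add_zero]
  exact add_left_cancel this)

theorem inv {l : M} {a : H} (hl : l ∈ L) (ha : a ∈ A l) : a⁻¹ = a :=
  inv_eq_of_mul_eq_one_left (G.sq hl ha)

theorem smul_smul_self {l : M} {a : H} (hl : l ∈ L) (ha : a ∈ A l) (m : M) : a • (a • m) = m := by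
  rw [← mul_smul, G.sq hl ha, one_smul]

theorem A_comm {l : M} {a b : H} (hl : l ∈ L) (ha : a ∈ A l) (hb : b ∈ A l) : a * b = b * a := by
  have h := G.sq hl (mul_mem ha hb)
  calc a * b = (a * b)⁻¹ := (inv_eq_of_mul_eq_one_left h).symm
    _ = b * a := by rw [mul_inv_rev, G.inv hl ha, G.inv hl hb]

/-- conjugate by an element fixing `l` -/
theorem A_conj_fix {l : M} {a h : H} (hl : l ∈ L) (ha : a ∈ A l) (hhl : h • l = l) : h * a * h⁻¹ ∈ A l := by
  have := G.A_conj h hl ha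
  rwa [hhl] at this

theorem A_conj_mul {l : M} {a h : H} (hl : l ∈ L) (ha : a ∈ A l) (hh : h * h = 1) : h * a * h ∈ A (h • l) := by
  have := G.A_conj h hl ha
  rwa [inv_eq_of_mul_eq_one_left hh] at this

/-- conjugate by an involution fixing `l` -/
theorem A_conj' {l : M} {a h : H} (hl : l ∈ L) (ha : a ∈ A l) (hh : h * h = 1) (hhl : h • l = l) :
    h * a * h ∈ A l := by
  have := G.A_conj_mul hl ha hh
  rwa [hhl] at this

theorem I_conj' {l u : M} {h : H} (hl : l ∈ L) (hu : u ∈ I l) (hhl : h • l = l) : h • u ∈ I l := by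
  have := G.I_conj h hl hu
  rwa [hhl] at this

theorem A_conj_iff {l : M} {a h : H} (hl : l ∈ L) : h * a * h⁻¹ ∈ A (h • l) ↔ a ∈ A l := by
  refine ⟨fun h1 => ?_, G.A_conj h hl⟩
  have := G.A_conj h⁻¹ (G.smul h hl) h1
  rw [inv_smul_smul] at this
  have e : h⁻¹ * (h * a * h⁻¹) * h⁻¹⁻¹ = a := by group
  rwa [e] at this

theorem I_conj_iff {l u : M} {h : H} (hl : l ∈ L) : h • u ∈ I (h • l) ↔ u ∈ I l := by
  refine ⟨fun h1 => ?_, G.I_conj h hl⟩
  have := G.I_conj h⁻¹ (G.smul h hl) h1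
  rwa [inv_smul_smul, inv_smul_smul] at this

theorem al_conj {l : M} {h : H} (hl : l ∈ L) (hhl : h • l = l) (m : M) : al l (h • m) = h * al l m * h⁻¹ := by
  have := G.al_smul h hl m
  rwa [hhl] at this

theorem A_fix {l : M} {a : H} (hl : l ∈ L) (ha : a ∈ A l) : a • l = l := G.fix hl ha (G.self hl)

theorem al_I_one {l u : M} (hl : l ∈ L) (hu : u ∈ I l) : al l u = 1 :=
  (G.al_ker hl u).2 fun _ ha => Or.inl (G.fix hl ha hu)

theorem al_self {l : M} (hl : l ∈ L) : al l l = 1 := G.al_I_one hl (G.self hl)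

theorem al_zero {l : M} (hl : l ∈ L) : al l 0 = 1 := G.al_I_one hl (zero_mem _)

theorem al_sq {l : M} (hl : l ∈ L) (m : M) : al l m * al l m = 1 := G.sq hl (G.al_mem hl m)

theorem al_of_fix {l m : M} (hl : l ∈ L) (h : ∀ a ∈ A l, a • m = m) : al l m = 1 :=
  (G.al_ker hl m).2 fun a ha => Or.inl (h a ha)

theorem zfix {l : M} {a b : H} (hl : l ∈ L) (ha : a ∈ A l) (hb : b ∈ A l) (m : M) : a • (b • m + m) = b • m + m :=
  G.fix hl ha (G.comm hl hb m)

/-- `a ↦ [m, a]` is a homomorphism -/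
theorem zmul {l : M} {a b : H} (hl : l ∈ L) (ha : a ∈ A l) (hb : b ∈ A l) (m : M) :
    (a * b) • m + m = (a • m + m) + (b • m + m) := by
  have h := G.zfix hl ha hb m
  rw [smul_add] at h
  have h1 : a • (b • m) = b • m + m + a • m := by
    rw [← h, G.two_right]
  rw [mul_smul, h1]
  simp only [add_assoc, add_comm, add_left_comm]

theorem inter {l m : M} {a : H} (hl : l ∈ L) (hm : m ∈ L) (ha : a ∈ A l) (ha' : a ∈ A m) (h1 : a ≠ 1) :
    m ∈ I l := by
  obtain ⟨e, -, he⟩ := G.phi hm ha' h1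
  have h := G.comm hl ha e
  rwa [he, add_comm, G.two_left] at h

/-- (N3) -/
theorem tri {l m : M} {a : H} (hl : l ∈ L) (hm : m ∈ L) (hlm : l ≠ m) (ha : a ∈ A l) (ha' : a ∈ A m) (h1 : a ≠ 1) :
    l + m ∈ L ∧ a ∈ A (l + m) := by
  obtain ⟨c, hcl, hcm, hc⟩ := G.Kt hl (G.inter hl hm ha ha' h1) (G.ne_zero hm) (fun e => hlm e.symm)
  have e : c • m = l + m := by rw [hcm, add_comm]
  refine ⟨e ▸ G.smul c hm, ?_⟩
  have h2 := G.A_conj c hm ha'
  rw [hc a ha, mul_inv_cancel_right, e] at h2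
  exact h2

/-- coplanar line vectors -/
theorem plane {l m : M} (hl : l ∈ L) (hm : m ∈ L) (hlm : l ≠ m) (h : m ∈ I l) : l + m ∈ L := by
  obtain ⟨c, hcl, hcm, hc⟩ := G.Kt hl h (G.ne_zero hm) (fun e => hlm e.symm)
  have e : c • m = l + m := by rw [hcm, add_comm]
  exact e ▸ G.smul c hm

theorem exists_ne [Finite H] {l : M} (hl : l ∈ L) : ∃ a ∈ A l, a ≠ 1 := by
  by_contra hcon
  push Not at hcon
  have : A l = ⊥ := (Subgroup.eq_bot_iff_forall _).2 hcon
  have h4 := G.four hl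
  rw [this, Subgroup.card_bot] at h4
  omega

/-- `A l ≤ A m` only for `l = m` -/
theorem inj [Finite H] {l m : M} (hl : l ∈ L) (hm : m ∈ L) (h : A l ≤ A m) : l = m := by
  by_contra hlm
  obtain ⟨a, ha, ha1⟩ := G.exists_ne hl
  have hmI := G.inter hl hm ha (h ha) ha1
  obtain ⟨c, hcl, hcm, hc⟩ := G.Kt hl hmI (G.ne_zero hm) (fun e => hlm e.symm)
  have hcard : Nat.card (A m) ≤ Nat.card (A l) := by
    obtain ⟨g, rfl⟩ := G.trans hm hl
    exact Nat.card_le_card_of_injective (fun a : A m => (⟨g * a * g⁻¹, G.A_conj g hm a.2⟩ : A (g • m)))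
      fun a b hab => Subtype.ext (by simpa using congrArg Subtype.val hab)
  have heq : A l = A m := Subgroup.eq_of_le_of_card_ge h hcard
  have h2 : c • m = m := by
    refine G.nrm hm fun x hx => ?_
    rw [← heq] at hx
    rw [hc x hx, mul_inv_cancel_right, ← heq]
    exact hx
  rw [hcm] at h2
  exact G.add_ne hl m h2

/-- an S-pair (one half suffices) -/
theorem disj {l m : M} {a : H} (hl : l ∈ L) (hm : m ∈ L) (h : al l m ≠ 1) (ha : a ∈ A l) (ha' : a ∈ A m) :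
    a = 1 := by
  by_contra h1
  exact h (G.al_I_one hl (G.inter hl hm ha ha' h1))

/-- separation of points by the functionals of `E l` -/
theorem sep {l : M} (hl : l ∈ L) (s : Finset H) (hs : ∀ b ∈ s, b ∈ A l) :
    ∀ x ∈ A l, x ∉ Subgroup.closure (s : Set H) → ∃ e, al l e = 1 ∧ (∀ b ∈ s, b • e = e) ∧ x • e = e + l := by
  classical
  induction s using Finset.induction_on with
  | empty =>
    intro x hx hxs
    have hx1 : x ≠ 1 := fun e => hxs (e ▸ one_mem _)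
    obtain ⟨e, he1, he⟩ := G.phi hl hx hx1
    exact ⟨e, he1, by simp, he⟩
  | insert y s hy ih =>
    intro x hx hxs
    have hs' : ∀ b ∈ s, b ∈ A l := fun b hb => hs b (Finset.mem_insert_of_mem hb)
    have hyA : y ∈ A l := hs y (Finset.mem_insert_self _ _)
    have hle : Subgroup.closure (s : Set H) ≤ Subgroup.closure ((insert y s : Finset H) : Set H) :=
      Subgroup.closure_mono (by simp)
    have hyc : y ∈ Subgroup.closure ((insert y s : Finset H) : Set H) :=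
      Subgroup.subset_closure (by simp)
    have hx1 : x ∉ Subgroup.closure (s : Set H) := fun h => hxs (hle h)
    have hx2 : x * y ∉ Subgroup.closure (s : Set H) := by
      intro h
      apply hxs
      have := mul_mem (hle h) (inv_mem hyc)
      rwa [mul_inv_cancel_right] at this
    obtain ⟨e₁, h11, h12, h13⟩ := ih hs' x hx hx1
    rcases (G.al_ker hl e₁).1 h11 y hyA with h14 | h14
    · refine ⟨e₁, h11, fun b hb => ?_, h13⟩
      rcases Finset.mem_insert.1 hb with rfl | hb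
      · exact h14
      · exact h12 b hb
    obtain ⟨e₂, h21, h22, h23⟩ := ih hs' (x * y) (mul_mem hx hyA) hx2
    rcases (G.al_ker hl e₂).1 h21 y hyA with h24 | h24
    · refine ⟨e₂, h21, fun b hb => ?_, ?_⟩
      · rcases Finset.mem_insert.1 hb with rfl | hb
        · exact h24
        · exact h22 b hb
      · rwa [mul_smul, h24] at h23
    · have h25 : x • e₂ = e₂ := by
        rw [mul_smul, h24, smul_add, G.A_fix hl hx] at h23
        exact add_right_cancel h23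
      refine ⟨e₁ + e₂, by rw [G.al_add hl, h11, h21, one_mul], fun b hb => ?_, ?_⟩
      · rcases Finset.mem_insert.1 hb with rfl | hb
        · rw [smul_add, h14, h24]
          have := G.two l
          calc e₁ + l + (e₂ + l) = e₁ + e₂ + (l + l) := by
                simp only [add_assoc, add_comm, add_left_comm]
            _ = e₁ + e₂ := by rw [this, add_zero]
        · rw [smul_add, h12 b hb, h22 b hb]
      · rw [smul_add, h13, h25]
        simp only [add_assoc, add_comm, add_left_comm]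

/-- a functional which vanishes at `a`, `b`, not at `x ∉ {1, a, b, a b}` -/
theorem sep2 {l : M} {a b x : H} (hl : l ∈ L) (ha : a ∈ A l) (hb : b ∈ A l) (hx : x ∈ A l) (h1 : x ≠ 1)
    (h2 : x ≠ a) (h3 : x ≠ b) (h4 : x ≠ a * b) :
    ∃ e, al l e = 1 ∧ a • e = e ∧ b • e = e ∧ x • e = e + l := by
  classical
  obtain ⟨e, h5, h6, h7⟩ := G.sep hl {a, b} (by
    intro c hc
    rcases Finset.mem_insert.1 hc with rfl | hc
    · exact ha
    · rw [Finset.mem_singleton.1 hc]; exact hb) x hx (by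
    intro hc
    have key : ∀ y ∈ Subgroup.closure (({a, b} : Finset H) : Set H), y = 1 ∨ y = a ∨ y = b ∨ y = a * b := by
      intro y hy
      have haa := G.sq hl ha
      have hbb := G.sq hl hb
      have hab := G.A_comm hl ha hb
      have m1 : a * (a * b) = b := by rw [← mul_assoc, haa, one_mul]
      have m2 : b * (a * b) = a := by rw [hab, ← mul_assoc, hbb, one_mul]
      have m3 : a * b * a = b := by rw [mul_assoc, ← hab, m1]
      have m4 : a * b * b = a := by rw [mul_assoc, hbb, mul_one]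
      have m5 : a * b * (a * b) = 1 := by rw [← mul_assoc, m3, hbb]
      induction hy using Subgroup.closure_induction with
      | mem y hy =>
        rcases Finset.mem_insert.1 hy with rfl | hy
        · simp
        · rw [Finset.mem_singleton.1 hy]; simp
      | one => simp
      | mul y z _ _ hy hz =>
        rcases hy with rfl | rfl | rfl | rfl <;> rcases hz with rfl | rfl | rfl | rfl <;>
          simp [haa, hbb, ← hab, m1, m2, m3, m4, m5]
      | inv y _ hy =>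
        rcases hy with rfl | rfl | rfl | rfl
        · simp
        · rw [G.inv hl ha]; simp
        · rw [G.inv hl hb]; simp
        · rw [G.inv hl (mul_mem ha hb)]; simp
    rcases key x hc with h | h | h | h
    · exact h1 h
    · exact h2 h
    · exact h3 h
    · exact h4 h)
  exact ⟨e, h5, h6 a (by simp), h6 b (by simp), h7⟩

/-- a functional which vanishes at `a`, not at `x ∉ {1, a}` -/
theorem sep1 {l : M} {a x : H} (hl : l ∈ L) (ha : a ∈ A l) (hx : x ∈ A l) (h1 : x ≠ 1) (h2 : x ≠ a) :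
    ∃ e, al l e = 1 ∧ a • e = e ∧ x • e = e + l := by
  obtain ⟨e, h3, h4, -, h5⟩ := G.sep2 hl ha (one_mem _) hx h1 h2 h1 (by rwa [mul_one])
  exact ⟨e, h3, h4, h5⟩

end Gen

end Cfsg.Agent.Omega.NO3S.TwoOne.PP

end

-- merged: Cfsg.Agent.Mrg.Omega.NO3S.TwoOne.PE.Glue
section

/-!
# NO-3S, `TwoOne` / `CompP`, no `λ`-transvections, `|A| ≥ 4` (helper409's #19417): glue, pure form

over helper885's structure `PP.Gen`:

* `PP.Gen.toSK` : helper867's `SK`; `PP.Gen.sgm` : SIGMA_k;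
* `PP.Gen.toPE`, `PP.Gen.false_of_part` : every S-pair partial: no S-pair;
* `PP.Gen.part_of_six`, `PP.Gen.six_false` : section 4 (`D_x > I`).
-/

set_option autoImplicit false
set_option linter.unusedSimpArgs false
set_option linter.unusedSectionVars false

namespace Cfsg.Agent.Omega.NO3S.TwoOne.PP.Gen

open Cfsg.Agent.Omega.NO3S.TwoOne

variable {M H : Type*} [AddCommGroup M] [Group H] [DistribMulAction H M] {L : Set M} {A : M → Subgroup H}
    {I : M → AddSubgroup M} {al : M → M → H} (G : Gen L A I al)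
include G

theorem toSK : SK L A I al where
  two := G.two
  ne0 := fun hl => G.ne_zero hl
  smul := G.smul
  A_conj := G.A_conj
  I_conj := G.I_conj
  sq := G.sq
  four := G.four
  self := G.self
  fix := G.fix
  al_mem := G.al_mem
  al_add := G.al_add
  al_conj := fun h hl m => G.al_smul h hl m
  al_ker := G.al_ker
  phi := G.phi
  s1 := fun {_ _ e} hl hm h h' he hne => G.s1 hl hm h h' e he hne
  s3 := fun {l m a} hl hm h h' ha hna => by
    obtain ⟨e, he, hne⟩ := G.phi hl (G.al_mem hl m) h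
    obtain ⟨j, hj, hj1, hjb⟩ := G.s3 hl hm h h' ⟨a, ha, hna⟩ e he
    refine ⟨j, hj, hj1, ?_⟩
    have h1 := hjb _ (G.al_mem hl m)
    rw [hne, add_comm e l, add_assoc, G.two, add_zero] at h1
    exact G.eq_add_of h1

/-- SIGMA_k -/
theorem sgm {l : M} {a o : H} (hl : l ∈ L) (ha : a ∈ A l) (ha1 : a ≠ 1) (ho : o ≠ 1) (hodd : Odd (orderOf o))
    (hinv : a * o * a⁻¹ = o⁻¹) : o * o * o = 1 ∧ a • (o • l) = o • l + l ∧ al l (o • l) = 1 := by
  obtain ⟨h1, h2, h3, -⟩ := G.toSK.sigma hl ha ha1 hodd (pow_orderOf_eq_one o) ho hinv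
  refine ⟨?_, h3, h2⟩
  rwa [pow_succ, pow_succ, pow_one] at h1

/-- helper396's record -/
theorem toPE [Finite H] (part : ∀ {l m : M}, l ∈ L → m ∈ L → al l m ≠ 1 → al m l ≠ 1 →
    al l m • m = m ∧ ∀ a ∈ A l, al m (a • m + m) = 1) : PE.Dat L A I al where
  two := G.two
  zero := G.zero
  smul := G.smul
  trans := G.trans
  A_conj := G.A_conj
  I_conj := G.I_conj
  sq := G.sq
  self := G.self
  comm := G.comm
  fix := G.fix
  al_mem := G.al_mem
  al_add := G.al_add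
  al_conj := fun hl hh m => G.al_conj hl hh m
  al_ker := G.al_ker
  sy := G.sy
  phi := G.phi
  plane := fun hl hm hne ha1 ha ha' => G.tri hl hm hne ha ha' ha1
  inj := fun hl hm he => G.inj hl hm (le_of_eq he)
  s1 := fun {_ _ e} hl hm h h' he hne => G.s1 hl hm h h' e he hne
  bs := fun hl ha ha1 => by
    obtain ⟨o, h1, h2, h3⟩ := G.bs hl ha ha1
    exact ⟨o, h1, h2, by rwa [G.inv hl ha]⟩
  sigma := fun hl ha ha1 ho hodd hinv => G.sgm hl ha ha1 ho hodd hinv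
  part := part

/-- **#19417, sections 2, 3** -/
theorem false_of_part [Finite H] (part : ∀ {l m : M}, l ∈ L → m ∈ L → al l m ≠ 1 → al m l ≠ 1 →
    al l m • m = m ∧ ∀ a ∈ A l, al m (a • m + m) = 1) {l m : M} (hl : l ∈ L) (hm : m ∈ L)
    (h : al l m ≠ 1) (h' : al m l ≠ 1) : False := (G.toPE part).false hl hm h h'

/-- some `m ∈ L` is not in `E l` -/
theorem exists_far [Finite H] {l : M} (hl : l ∈ L) : ∃ m ∈ L, al l m ≠ 1 := by
  by_contra hcon
  push Not at hcon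
  obtain ⟨a, ha, ha1⟩ := G.exists_ne hl
  obtain ⟨x, hx⟩ := G.al_surj hl ha
  apply ha1
  rw [← hx]
  have h1 : x ∈ AddSubgroup.closure L := by rw [G.gen]; trivial
  refine AddSubgroup.closure_induction (p := fun x _ => al l x = 1) (fun y hy => hcon y hy) (G.al_zero hl)
    (fun a b _ _ ha hb => by rw [G.al_add hl, ha, hb, one_mul]) (fun a _ ha => ?_) h1
  have : -a = a := neg_eq_of_add_eq_zero_right (G.two a)
  rw [this]; exact ha

/-- `[A_l, m] ≤ E_m` : the pair is partial (section 1) -/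
theorem part_of {l m : M} (hl : l ∈ L) (hm : m ∈ L) (h : al l m ≠ 1) (h' : al m l ≠ 1)
    (hp : ∀ a ∈ A l, al m (a • m + m) = 1) : al l m • m = m := by
  have hk : ∀ x, al m (al l x • m + m + l) ≠ 1 := by
    intro x e
    rw [G.al_add hm, hp _ (G.al_mem hl x), one_mul] at e
    exact h' e
  by_cases hq : ∀ x, al l x • x = x ∨ al l x • x = x + l
  · rcases hq m with e | e
    · exact e
    · exfalso
      have h1 := hp _ (G.al_mem hl m)
      rw [e, add_comm m l, add_assoc, G.two, add_zero] at h1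
      exact h' h1
  · push Not at hq
    obtain ⟨x, h1, h2⟩ := hq
    obtain ⟨u, hu, hu', hu0⟩ := G.kappa hl hm h h' x h1 h2 (hk x)
    exact G.alpha hl hm h h' u hu hu' hu0

/-- (N6) implies that every S-pair is partial -/
theorem part_of_six (six : ∀ {l m : M} {a : H}, l ∈ L → m ∈ L → al l m ≠ 1 → a ∈ A m → al l (a • l + l) = 1)
    {l m : M} (hl : l ∈ L) (hm : m ∈ L) (h : al l m ≠ 1) (h' : al m l ≠ 1) :
    al l m • m = m ∧ ∀ a ∈ A l, al m (a • m + m) = 1 := by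
  have h1 : ∀ a ∈ A l, al m (a • m + m) = 1 := fun a ha => six hm hl h' ha
  exact ⟨G.part_of hl hm h h' h1, h1⟩

/-- **#19417, section 4** (`D_x > I`) -/
theorem six_false [Finite H]
    (six : ∀ {l m : M} {a : H}, l ∈ L → m ∈ L → al l m ≠ 1 → a ∈ A m → al l (a • l + l) = 1)
    (sym : ∀ {l m : M}, l ∈ L → m ∈ L → al l m = 1 → al m l = 1) {l : M} (hl : l ∈ L) : False := by
  obtain ⟨m, hm, h⟩ := G.exists_far hl
  exact G.false_of_part (fun hl hm h h' => G.part_of_six six hl hm h h') hl hm h fun e => h (sym hm hl e)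

end Cfsg.Agent.Omega.NO3S.TwoOne.PP.Gen

end

-- merged: Cfsg.Agent.Mrg.Omega.NO3S.TwoOne.SG.AlphaPair
section

/-!
# NO-3S, `q = 2`, `n = 1`, no `λ`-transvections (helper409's text #19417, (0.6), (0.7)): pairs of lines on `z`

`h : One T V z`, `L` another line on `z`, `y ∈ V`, `q ∈ L`, `q ∉ E_z(V)`, `y ∉ E_z(L)` (an `S`-pair).

* `One.kappa` : for `w ∈ W_y` and `e ∈ E_q(L)` which moves `y` and commutes with `q^w`, `[w, w^e]` lies in `I_V ∩ I_L`;
* `One.alpha_pair` (0.6) : `1 ≠ u ≠ z`, `u ∈ I_V ∩ I_L` imply `[q, q'] ∈ ⟨z⟩`, `q' ∈ W_y` over the class of `q`;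
* `One.m_kappa`, `One.m_alpha_pair` : the same in `M`, for all pairs of line vectors.
-/

set_option autoImplicit false
set_option linter.unusedSectionVars false

namespace Cfsg.Agent.Omega.NO3S.TwoOne

open Subgroup Cfsg Cfsg.Agent.ZN Cfsg.Agent.MinSimple.Geo Cfsg.Agent.Omega.CaseL
open Cfsg.Agent.Omega.NO3S.Fit
open Cfsg.Agent.ZN.Block (conj_mem_of_normalizer conj_mem_of_normalizer' le_normalizer_of_forall
  mem_normalizer_of)
open scoped commutatorElement

universe u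

variable {G : Type u} [Group G]

namespace One

variable {T V L : Subgroup G} {z y q e w : G}

/-- **(0.7)** `[w, w^e] ∈ I_V ∩ I_L` -/
theorem kappa [Finite G] (h : One T V z) (hL : L ∈ lines V z) (hy : y ∈ V) (hy1 : y ≠ 1)
    (hyz : y ≠ z) (hq : q ∈ L) (hq1 : q ≠ 1) (hqz : q ≠ z) (he : e ∈ ee L q) (ey : e * y * e⁻¹ = z * y)
    (hw : w ∈ ws V y) (hew : e * (w * q * w⁻¹) = w * q * w⁻¹ * e) :
    ⁅w, e * w * e⁻¹⁆ ∈ ii V ∧ ⁅w, e * w * e⁻¹⁆ ∈ ii L := by
  have hz := h.ln.z_mem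
  have hz1 := h.ln.z_ne
  obtain ⟨-, -, T', h'⟩ := h.of_line hL hz1
  have hzL := h'.ln.z_mem
  have hs : z * y ∈ V := mul_mem hz hy
  have hs1 : z * y ≠ 1 := h.mul_ne_one hy (Ne.symm hyz)
  have hww : w * w = 1 := h.sq hy hy1 w hw
  have hwi : w⁻¹ = w := inv_eq_self hww
  have hee : e * e = 1 := h'.sq hq hq1 e he.1
  have hei : e⁻¹ = e := inv_eq_self hee
  -- `f = e^w` centralises `q`
  have h5 : (w * e * w⁻¹) * q = q * (w * e * w⁻¹) := by
    have e1 : w * (e * (w * q * w⁻¹)) * w⁻¹ = w * (w * q * w⁻¹ * e) * w⁻¹ := by rw [hew]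
    have e2 : w * (e * (w * q * w⁻¹)) * w⁻¹ = (w * e * w⁻¹) * ((w * w) * q * (w * w)⁻¹) := by group
    have e3 : w * (w * q * w⁻¹ * e) * w⁻¹ = ((w * w) * q * (w * w)⁻¹) * (w * e * w⁻¹) := by group
    rw [e2, e3, hww] at e1
    simpa using e1
  have es : e * w * e⁻¹ ∈ ws V (z * y) := by
    have := conj_mem_ws e hw
    rwa [ey] at this
  have eq : ⁅w, e * w * e⁻¹⁆ = ⁅w * e * w⁻¹, e⁆ := by
    have hss : (e * w * e⁻¹)⁻¹ = e * w * e⁻¹ := inv_eq_self (h.sq hs hs1 _ es)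
    simp only [commutatorElement_def]
    calc w * (e * w * e⁻¹) * w⁻¹ * (e * w * e⁻¹)⁻¹ = w * (e * w * e⁻¹) * w⁻¹ * (e * w * e⁻¹) := by rw [hss]
      _ = (w * e * w) * e⁻¹ * w⁻¹ * (e * w * e⁻¹) := by group
      _ = (w * e * w⁻¹) * e * (w * e⁻¹ * w⁻¹) * e⁻¹ := by rw [hwi, hei]; group
      _ = w * e * w⁻¹ * e * (w * e * w⁻¹)⁻¹ * e⁻¹ := by group
  have hi : ⁅w, e * w * e⁻¹⁆ ∈ ii V := h.comm_ii_mem hy hy1 hs hs1 hw es
  refine ⟨hi, h'.mem_ii hzL hz1 hq hq1 hqz ?_ ?_⟩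
  · rw [ws_of_lines hL]; exact hi z hz hz1
  · rw [eq, commutatorElement_def]
    have h6 := conj_mem_ws (V := L) (w * e * w⁻¹) he.1
    rw [conj_eq_of_comm h5] at h6
    exact mul_mem h6 (inv_mem he.1)

/-- `[w, w^e] = β(a, a)` modulo `V` -/
theorem kappa_beta [Finite G] (h : One T V z) (hy : y ∈ V) (hy1 : y ≠ 1) (hyz : y ≠ z) (he : e ∈ kq V z)
    (ey : e * y * e⁻¹ = z * y) (hw : w ∈ ws V y) {w' : G} (hw' : w' ∈ ws V z) (htw : Tw V y w z w') :
    ⁅w, e * w * e⁻¹⁆ * ⁅w, w'⁆⁻¹ ∈ V := by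
  have hz := h.ln.z_mem
  have hz1 := h.ln.z_ne
  have hs : z * y ∈ V := mul_mem hz hy
  have hs1 : z * y ≠ 1 := h.mul_ne_one hy (Ne.symm hyz)
  have hsy : z * y ≠ y := fun e' => hz1 (by simpa using e')
  have es : e * w * e⁻¹ ∈ ws V (z * y) := by
    have := conj_mem_ws e hw
    rwa [ey] at this
  have t1 : Tw V y w (z * y) (e * w * e⁻¹) := by
    have := h.tw_conj (kq_le_xl hz hz1 he) y w
    rwa [ey] at this
  have t2 : Tw V (z * y) (e * w * e⁻¹) z w' := h.tw_trans (h.tw_symm t1) htw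
  have t3 : Tw V y w y w := (h.tw_self hy hy1 hw).mpr (by rw [mul_inv_cancel]; exact one_mem _)
  exact h.beta_tw hy hy1 hs hs1 hsy hy hy1 hz hz1 (Ne.symm hyz) hw es hw hw' t3 t2

/-- **(0.6)** -/
theorem alpha_pair [Finite G] (h : One T V z) (hN : NT V) (hL : L ∈ lines V z) (hy : y ∈ V) (hy1 : y ≠ 1)
    (hyz : y ≠ z) (hq : q ∈ L) (hq1 : q ≠ 1) (hqz : q ≠ z) (hqE : q ∉ ee V z) (hyE : y ∉ ee L z) {u : G}
    (hu : u ∈ ii V) (hu' : u ∈ ii L) (hu1 : u ≠ 1) (huz : u ≠ z) {q' : G} (hq' : q' ∈ ws V y)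
    (htq : Tw V z q y q') : q' * q * q'⁻¹ = q ∨ q' * q * q'⁻¹ = z * q := by
  have hz := h.ln.z_mem
  have hz1 := h.ln.z_ne
  have hzz := h.ln.zz
  obtain ⟨-, -, T', h'⟩ := h.of_line hL hz1
  have hzL := h'.ln.z_mem
  have hNL := hN.of_lines hL
  have hs : z * y ∈ V := mul_mem hz hy
  have hs1 : z * y ≠ 1 := h.mul_ne_one hy (Ne.symm hyz)
  have hsz : z * y ≠ z := fun e' => hy1 (by simpa using e')
  have hzy := h.ln.comm hz hy
  have hqW : q ∈ ws V z := by
    have := h'.V_le hzL hz1 hq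
    rwa [ws_of_lines hL] at this
  have hqI : q ∉ ii V := fun hc => hqE (h.ii_le_ee hz hz1 hc)
  have hyI : y ∉ ii L := fun hc => hyE (h'.ii_le_ee hzL hz1 hc)
  have huV : u ∉ V := by
    intro hc
    rcases h.ln.four hz hy hz1 hy1 (Ne.symm hyz) hc with e1 | e1 | e1 | e1
    · exact hu1 e1
    · exact huz e1
    · exact hyI (e1 ▸ hu')
    · apply hyI
      have := mul_mem (h'.V_le_ii hzL) hu'
      rw [e1, ← mul_assoc, hzz, one_mul] at this
      exact this
  have huL : u ∉ L := by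
    intro hc
    rcases h'.ln.four hzL hq hz1 hq1 (Ne.symm hqz) hc with e1 | e1 | e1 | e1
    · exact hu1 e1
    · exact huz e1
    · exact hqI (e1 ▸ hu)
    · apply hqI
      have := mul_mem (h.V_le_ii hz) hu
      rw [e1, ← mul_assoc, hzz, one_mul] at this
      exact this
  obtain ⟨e, he, ey⟩ := h'.nt_move_ee hNL hq hq1 hzL hz1 (Ne.symm hqz)
    (by rw [ws_of_lines hL]; exact h.V_le hz hz1 hy) hyE
  obtain ⟨g, hg, -, gq⟩ := h.nt_move_dd hN hz hz1 hqW (fun hc => hqE (h.dd_le_ee z hc))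
  have S : Spr V L z y q e g :=
    ⟨hL, hy, hy1, hyz, hq, hq1, hqz, he, ey, fun p _ _ c hc => dd_comm_fl hc hg, gq⟩
  -- a mover `k ∈ K_s ∩ C(u)`
  obtain ⟨k, hk, hk1, hku⟩ := h.exists_mover_cent hu huV hs hs1
  have hkz : k * z * k⁻¹ = y := by
    rw [h.move hs hs1 hz hz1 (Ne.symm hsz) hk hk1, hzy, mul_assoc, hzz, mul_one]
  have hkJ : k ∈ centralizer ({u} : Set G) := mem_centralizer_singleton_iff.mpr hku
  have hqN : q ∈ nu u z := h'.V_le_nu hu' huL hq
  have hbN : k * q * k⁻¹ ∈ nu u z := conj_mem_nu hkJ hqN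
  have hbW : k * q * k⁻¹ ∈ ws V y := by
    have := conj_mem_ws k hqW
    rwa [hkz] at this
  set b := k * q * k⁻¹ with hbd
  have h3 := S.nu_comm h hN hu hu' huV hz hz1 hy hy1 hyz hqN hqW hbN hbW
  have huu : u * u = 1 := h.sqz u (hu z hz hz1)
  -- `q` and `b` commute
  have hqb : q * b = b * q := by
    rcases h3 with e1 | e1
    · calc q * b = (q * b * q⁻¹ * b⁻¹) * b * q := by group
        _ = b * q := by rw [e1, one_mul]
    · exfalso
      -- `q^b = u q`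
      have e2 : b * q * b⁻¹ = u * q := by
        have e3 : b * q * b⁻¹ = (q * b * q⁻¹ * b⁻¹)⁻¹ * q := by group
        rw [e3, e1, inv_eq_self huu]
      have hbz : b * z * b⁻¹ = z := conj_eq_of_comm (h.V_comm hz (h.ws_le_centralizer_V hy hy1 hbW)).symm
      have hL' : cj b L ∈ lines L z := by
        have := mem_lines_cj (g := b) (L := L) (V := L) (x := z) ⟨⟨1, (cj_one L).symm⟩, hzL⟩
        rwa [hbz] at this
      have huq : u * q ∈ cj b L := by rw [← e2]; exact conj_mem_cj hq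
      have huqI : u * q ∈ ii L := mul_mem hu' (h'.V_le_ii hq)
      have huqL : u * q ∉ L := fun hc => huL (by
        have := mul_mem hc (inv_mem hq)
        rwa [mul_inv_cancel_right] at this)
      obtain ⟨U, hU, hLU, huqU, -⟩ := h'.exists_plane huqI huqL ⟨_, hL', huq⟩
      have huU : u ∈ U := by
        have := mul_mem huqU (inv_mem (hLU hq))
        rwa [mul_inv_cancel_right] at this
      obtain ⟨L3, hL3, huL3⟩ := hU.line z (hLU hzL) u huU hz1 hu1 (Ne.symm huz)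
      obtain ⟨-, -, T3, h3'⟩ := h'.of_line hL3 hz1
      -- `N ≤ W_u`
      have hNle : nu u z ≤ ws L3 u := by
        refine (closure_le _).mpr ?_
        rintro _ ⟨c, hc, rfl⟩
        have h7 := conj_mem_ws c (h3'.V_le huL3 hu1 h3'.ln.z_mem)
        rwa [conj_eq_of_comm (mem_centralizer_singleton_iff.mp hc)] at h7
      have h8 := h3'.comm huL3 hu1 _ (hNle hqN) _ (hNle hbN)
      rw [h8] at e1
      apply hu1
      rw [← e1]; group
  -- `q' = c b`, `c ∈ E_y`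
  have t1 : Tw V z q y b := by
    have := h.tw_conj (kq_le_xl hs hs1 hk) z q
    rwa [hkz] at this
  have t2 : Tw V y q' y b := h.tw_trans (h.tw_symm htq) t1
  have t3 := (h.tw_self hy hy1 hq').mp t2
  have t4 := h.kq_cases hz (t3.2 z hz hz1) hqW
  have e1 : q' * q * q'⁻¹ = (q' * b⁻¹) * (b * q * b⁻¹) * (q' * b⁻¹)⁻¹ := by group
  rw [e1, conj_eq_of_comm hqb.symm]
  exact t4

/-! ### in `M` -/

section M

variable {M H : Type u} [AddCommGroup M] [Group H] [DistribMulAction H M]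

/-- `AL` at `v₀` -/
theorem AL_selfP [Finite G] (h : One T V z) (R : MRep V cg z M H) (hy : y ∈ V) (hy1 : y ≠ 1) (hyz : y ≠ z)
    (m : M) : AL R y (R.pi y) m = al0 R y m := by
  have := h.AL_eq R hy hy1 hyz (l := R.pi y) (x := 1) (one_smul _ _) m
  simpa using this

theorem mem_II_selfP [Finite G] (h : One T V z) (R : MRep V cg z M H) (hy : y ∈ V) (hy1 : y ≠ 1) (hyz : y ≠ z)
    {u : M} : u ∈ II R y (R.pi y) ↔ u ∈ i0 R := by
  have := h.mem_II R hy hy1 hyz (l := R.pi y) (u := u) (x := 1) (one_smul _ _)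
  simpa using this

/-- (0.6) at `v₀` -/
theorem m_alpha_pair₀ [Finite G] (h : One T V z) (hN : NT V) (R : MRep V cg z M H) (hy : y ∈ V) (hy1 : y ≠ 1)
    (hyz : y ≠ z) {m : M} (hm : m ∈ LL R y) (h1 : al0 R y m ≠ 1) (h2 : AL R y m (R.pi y) ≠ 1) {u : M}
    (hu : u ∈ i0 R) (hu' : u ∈ II R y m) (hu0 : u ≠ 0) : al0 R y m • m = m := by
  have hz := h.ln.z_mem
  have hz1 := h.ln.z_ne
  obtain ⟨T', L, q, h', R', hL, hq, hq1, hqz, epi, ephi, eq, -, -, hII, hAL, -, -, -⟩ := h.base R hy hy1 hyz hm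
  have hzL := h'.ln.z_mem
  have hqW : q ∈ ws V z := by
    have := h'.V_le hzL hz1 hq
    rwa [ws_of_lines hL] at this
  have hyW := h.V_le hz hz1 hy
  -- the pair
  have hqE : q ∉ ee V z := fun hc => h1 (by rw [← eq]; exact (h.al0_one R hy hy1 hyz hqW).mpr hc)
  have hyE : y ∉ ee L z := fun hc => h2 (by
    rw [← hAL m hm]
    have e1 : m = R'.pi q := by rw [epi]; exact eq.symm
    have e2 : R.pi y = R'.pi y := by rw [epi]
    rw [e2, e1, h'.AL_selfP R' hq hq1 hqz]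
    exact (h'.al0_one R' hq hq1 hqz (by rw [ws_of_lines hL]; exact hyW)).mpr hc)
  -- `u`
  obtain ⟨v, hv, rfl⟩ := (h.mem_i0 R).mp hu
  have hv1 : v ≠ 1 := by
    rintro rfl
    exact hu0 (h.rp_one R)
  have hvz : v ≠ z := by
    rintro rfl
    exact hu0 ((h.rp_zero R (h.V_le hz hz1 hz)).mpr (Or.inr rfl))
  have hvL : v ∈ ii L := by
    rw [← hII m hm] at hu'
    have e1 : m = R'.pi q := by rw [epi]; exact eq.symm
    rw [e1, h'.mem_II_selfP R' hq hq1 hqz] at hu'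
    obtain ⟨v', hv', e2⟩ := (h'.mem_i0 R').mp hu'
    rw [epi] at e2
    have hv'W : v' ∈ ws V z := by
      have := ii_le hzL hz1 hv'
      rwa [ws_of_lines hL] at this
    rcases (h.rp_eq R hv'W (ii_le hz hz1 hv)).mp e2 with e3 | e3
    · rw [← e3]; exact hv'
    · have e4 : v = z * v' := by rw [e3, ← mul_assoc, h.ln.zz, one_mul]
      rw [e4]; exact mul_mem (h'.V_le_ii hzL) hv'
  obtain ⟨w, hw, b, hb, ew, ht, eb⟩ := h.exists_al0 R hy hy1 hyz m
  -- take `w = q`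
  have ht' : Tw V z q y b := by
    rw [← eq] at ew
    rcases (h.rp_eq R hw hqW).mp ew with e3 | e3
    · rwa [e3] at ht
    · obtain ⟨g, hg, hgz, hg2⟩ := ht
      refine (h.tw_iff hz hz1 hqW hg hgz).mpr ?_
      have e4 : g * q * g⁻¹ * b⁻¹ = (g * z⁻¹ * g⁻¹) * (g * w * g⁻¹ * b⁻¹) := by rw [e3]; group
      rw [e4]
      refine mul_mem ?_ hg2
      have e5 : g * z⁻¹ * g⁻¹ = (g * z * g⁻¹)⁻¹ := by group
      rw [e5, hgz]
      exact inv_mem (h.V_le_ee hy hy1 hy)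
  have h3 := h.alpha_pair hN hL hy hy1 hyz hq hq1 hqz hqE hyE hv hvL hv1 hvz hb ht'
  rw [eb, ← eq, h.rp_act R (h.ws_le_cz hy hy1 hb) hqW]
  rcases h3 with e1 | e1
  · rw [e1]
  · rw [e1]; exact (h.rp_eq R (mul_mem (h.V_le hz hz1 hz) hqW) hqW).mpr (Or.inr rfl)

/-- **(0.6)** -/
theorem m_alpha_pair [Finite G] (h : One T V z) (hN : NT V) (R : MRep V cg z M H) (hy : y ∈ V) (hy1 : y ≠ 1)
    (hyz : y ≠ z) {l m : M} (hl : l ∈ LL R y) (hm : m ∈ LL R y) (h1 : AL R y l m ≠ 1) (h2 : AL R y m l ≠ 1)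
    {u : M} (hu : u ∈ II R y l) (hu' : u ∈ II R y m) (hu0 : u ≠ 0) : AL R y l m • m = m := by
  obtain ⟨T', L, q, h', R', hL, hq, hq1, hqz, epi, ephi, eq, hLL, -, hII, hAL, hNT, -, -⟩ := h.base R hy hy1 hyz hl
  have e1 : l = R'.pi q := by rw [epi]; exact eq.symm
  have hm' : m ∈ LL R' q := by rw [hLL]; exact hm
  rw [← hAL l hl] at h1 ⊢
  rw [← hAL m hm] at h2
  rw [← hII l hl] at hu
  rw [← hII m hm] at hu'
  rw [e1, h'.AL_selfP R' hq hq1 hqz] at h1
  rw [e1, h'.AL_selfP R' hq hq1 hqz]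
  rw [e1] at h2
  rw [e1, h'.mem_II_selfP R' hq hq1 hqz] at hu
  exact h'.m_alpha_pair₀ (hNT hN) R' hq hq1 hqz hm' h1 h2 hu hu' hu0

/-- (0.7) at `v₀` -/
theorem m_kappa₀ [Finite G] (h : One T V z) (hN : NT V) (R : MRep V cg z M H) (hy : y ∈ V) (hy1 : y ≠ 1)
    (hyz : y ≠ z) {m v : M} (hm : m ∈ LL R y) (h2 : AL R y m (R.pi y) ≠ 1)
    (hf : AL R y m (al0 R y v • m + m) ≠ AL R y m (R.pi y)) (h3 : al0 R y v • v + v ≠ 0)
    (h4 : al0 R y v • v + v ≠ R.pi y) : ∃ u ∈ i0 R, u ∈ II R y m ∧ u ≠ 0 := by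
  have hz := h.ln.z_mem
  have hz1 := h.ln.z_ne
  obtain ⟨T', L, q, h', R', hL, hq, hq1, hqz, epi, ephi, eq, -, -, hII, hAL, -, -, -⟩ := h.base R hy hy1 hyz hm
  have hzL := h'.ln.z_mem
  have hNL := hN.of_lines hL
  have hqW : q ∈ ws V z := by
    have := h'.V_le hzL hz1 hq
    rwa [ws_of_lines hL] at this
  have hyW := h.V_le hz hz1 hy
  have e0 : m = R'.pi q := by rw [epi]; exact eq.symm
  have key : ∀ x ∈ ws V z, AL R y m (R.pi x) = 1 ↔ x ∈ ee L z := by
    intro x hx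
    rw [← hAL m hm]
    have e2 : R.pi x = R'.pi x := by rw [epi]
    rw [e2, e0, h'.AL_selfP R' hq hq1 hqz]
    exact h'.al0_one R' hq hq1 hqz (by rw [ws_of_lines hL]; exact hx)
  have hyE : y ∉ ee L z := fun hc => h2 ((key y hyW).mpr hc)
  obtain ⟨w', hw', w, hw, ew, ht, eb⟩ := h.exists_al0 R hy hy1 hyz v
  have hwz : w * z * w⁻¹ = z := conj_eq_of_comm (h.V_comm hz (h.ws_le_centralizer_V hy hy1 hw)).symm
  set c := w * q * w⁻¹ * q⁻¹ with hc
  have hwq : w * q * w⁻¹ ∈ ws V z := by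
    have := conj_mem_ws w hqW
    rwa [hwz] at this
  have hcW : c ∈ ws V z := mul_mem hwq (inv_mem hqW)
  have hpc : al0 R y v • m + m = R.pi c := by
    rw [eb, ← eq]
    exact h.rp_comm R (h.ws_le_cz hy hy1 hw) hqW hwq
  rw [hpc] at hf
  -- `y c ∉ E_z(L)`
  have hycE : y * c ∉ ee L z := by
    intro hc'
    apply hf
    have h5 := (key _ (mul_mem hyW hcW)).mpr hc'
    rw [h.rp_mul R hyW hcW, h.in_al_add R hy hy1 hyz hm] at h5
    have h6 : AL R y m (R.pi y) * AL R y m (R.pi y) = 1 := by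
      have := h.in_sq R hy hy1 hyz hm (h.in_al_mem R hy hy1 hyz hm (R.pi y))
      exact this
    calc AL R y m (R.pi c) = AL R y m (R.pi y) * (AL R y m (R.pi y) * AL R y m (R.pi c)) := by
          rw [← mul_assoc, h6, one_mul]
      _ = AL R y m (R.pi y) := by rw [h5, mul_one]
  have hyL : y ∈ ws L z := by rw [ws_of_lines hL]; exact hyW
  have hycL : y * c ∈ ws L z := by rw [ws_of_lines hL]; exact mul_mem hyW hcW
  obtain ⟨e, he, h5, h6⟩ := h'.nt_move_two hNL hq hq1 hqz hyL hyE hycL hycE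
  have hekL : e ∈ kq L z := he.2 z hzL hz1
  have hek : e ∈ kq V z := by rw [← kq_of_lines hL]; exact hekL
  have ey : e * y * e⁻¹ = z * y := by
    rcases h.kq_cases hz hek hyW with e1 | e1
    · exact absurd (comm_of_conj_eq e1) h5
    · exact e1
  have eyc : e * (y * c) * e⁻¹ = z * (y * c) := by
    rcases h.kq_cases hz hek (mul_mem hyW hcW) with e1 | e1
    · exact absurd (comm_of_conj_eq e1) h6
    · exact e1
  have hec : e * c * e⁻¹ = c := by
    have e1 : e * (y * c) * e⁻¹ = (e * y * e⁻¹) * (e * c * e⁻¹) := by group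
    rw [e1, ey] at eyc
    have e2 : z * y * (e * c * e⁻¹) = z * y * c := by rw [eyc]; group
    exact mul_left_cancel e2
  have heq : e * q = q * e := h'.comm hq hq1 e he.1 q (h'.V_le hq hq1 hq)
  have hew : e * (w * q * w⁻¹) = w * q * w⁻¹ * e := by
    have h7 := comm_mul_of (comm_of_conj_eq hec) heq
    have e1 : c * q = w * q * w⁻¹ := by rw [hc]; group
    rwa [e1] at h7
  obtain ⟨hu, hu'⟩ := h.kappa hL hy hy1 hyz hq hq1 hqz he ey hw hew
  have hub := h.kappa_beta hy hy1 hyz hek ey hw hw' (h.tw_symm ht)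
  set u := ⁅w, e * w * e⁻¹⁆ with hud
  have hwV : ⁅w, w'⁆ ∉ V := by
    have hw'c : w * w' * w⁻¹ ∈ ws V z := by
      have := conj_mem_ws w hw'
      rwa [hwz] at this
    have hp : al0 R y v • v + v = R.pi ⁅w, w'⁆ := by
      rw [eb, ← ew, commutatorElement_def]
      exact h.rp_comm R (h.ws_le_cz hy hy1 hw) hw' hw'c
    rw [hp] at h3 h4
    intro hc'
    rcases h.ln.four hz hy hz1 hy1 (Ne.symm hyz) hc' with e1 | e1 | e1 | e1
    · apply h3; rw [e1]; exact h.rp_one R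
    · apply h3; rw [e1]; exact (h.rp_zero R (h.V_le hz hz1 hz)).mpr (Or.inr rfl)
    · apply h4; rw [e1]
    · apply h4; rw [e1]; exact (h.rp_eq R (mul_mem (h.V_le hz hz1 hz) hyW) hyW).mpr (Or.inr rfl)
  have huV : u ∉ V := fun hc' => hwV (by
    have := mul_mem (inv_mem hub) hc'
    have e1 : (u * ⁅w, w'⁆⁻¹)⁻¹ * u = ⁅w, w'⁆ := by group
    rwa [e1] at this)
  refine ⟨R.pi u, (h.mem_i0 R).mpr ⟨u, hu, rfl⟩, ?_, ?_⟩
  · rw [← hII m hm, e0, h'.mem_II_selfP R' hq hq1 hqz]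
    exact (h'.mem_i0 R').mpr ⟨u, hu', by rw [epi]⟩
  · intro h0
    rcases (h.rp_zero R (ii_le hz hz1 hu)).mp h0 with e1 | e1
    · exact huV (by rw [e1]; exact one_mem _)
    · exact huV (by rw [e1]; exact hz)

/-- **(0.7)** -/
theorem m_kappa [Finite G] (h : One T V z) (hN : NT V) (R : MRep V cg z M H) (hy : y ∈ V) (hy1 : y ≠ 1)
    (hyz : y ≠ z) {l m v : M} (hl : l ∈ LL R y) (hm : m ∈ LL R y) (h2 : AL R y m l ≠ 1)
    (hf : AL R y m (AL R y l v • m + m) ≠ AL R y m l) (h3 : AL R y l v • v + v ≠ 0)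
    (h4 : AL R y l v • v + v ≠ l) : ∃ u ∈ II R y l, u ∈ II R y m ∧ u ≠ 0 := by
  obtain ⟨T', L, q, h', R', hL, hq, hq1, hqz, epi, ephi, eq, hLL, -, hII, hAL, hNT, -, -⟩ := h.base R hy hy1 hyz hl
  have e1 : l = R'.pi q := by rw [epi]; exact eq.symm
  have hm' : m ∈ LL R' q := by rw [hLL]; exact hm
  have e2 : AL R y l v = al0 R' q v := by
    rw [← hAL l hl, e1]; exact h'.AL_selfP R' hq hq1 hqz v
  rw [e2] at hf h3 h4
  rw [← hAL m hm, e1] at h2
  rw [← hAL m hm, ← hAL m hm, e1] at hf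
  rw [e1] at h4
  obtain ⟨u, hu, hu', hu0⟩ := h'.m_kappa₀ (hNT hN) R' hq hq1 hqz hm' h2 hf h3 h4
  refine ⟨u, ?_, ?_, hu0⟩
  · rw [← hII l hl, e1, h'.mem_II_selfP R' hq hq1 hqz]; exact hu
  · rw [← hII m hm]; exact hu'

/-- **(0.7)**, the field `kappa` of 885's abstract structure (#19539) -/
theorem m_kappa' [Finite G] (h : One T V z) (hN : NT V) (R : MRep V cg z M H) (hy : y ∈ V) (hy1 : y ≠ 1)
    (hyz : y ≠ z) {l m v : M} (hl : l ∈ LL R y) (hm : m ∈ LL R y) (h2 : AL R y m l ≠ 1)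
    (h3 : AL R y l v • v + v ≠ 0) (h4 : AL R y l v • v + v ≠ l)
    (hf : AL R y m (AL R y l v • m + m + l) ≠ 1) : ∃ u, u ≠ 0 ∧ u ∈ II R y l ∧ u ∈ II R y m := by
  obtain ⟨u, hu, hu', hu0⟩ := h.m_kappa hN R hy hy1 hyz hl hm h2 (v := v) (fun e1 => hf (by
    rw [h.in_al_add R hy hy1 hyz hm, e1]
    exact h.in_sq R hy hy1 hyz hm (h.in_al_mem R hy hy1 hyz hm l))) h3 h4
  exact ⟨u, hu0, hu, hu'⟩

end M

end One

end Cfsg.Agent.Omega.NO3S.TwoOne

end

-- merged: Cfsg.Agent.Mrg.Omega.NO3S.TwoOne.PE.DPlug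
section

/-!
# NO-3S, `q = 2`, `n = 1`, no `λ`-transvections, `|A| ≥ 4`: the instance of `PP.Gen` and `D_x > I` (helper409's #19417)

* `One.pp_gen` : helper885's structure `PP.Gen`; `One.pe_dat` : `PE.Dat` from `part`;
* `One.dd_big` : `D_z > I` is impossible (planes allowed).
-/

set_option autoImplicit false
set_option linter.unusedSectionVars false

namespace Cfsg.Agent.Omega.NO3S.TwoOne

open Subgroup Cfsg Cfsg.Agent.ZN Cfsg.Agent.MinSimple.Geo Cfsg.Agent.Omega.CaseL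
open Cfsg.Agent.Omega.NO3S.Fit

universe u

variable {G : Type u} [Group G]

namespace One

variable {T V : Subgroup G} {z : G} {M H : Type u} [AddCommGroup M] [Group H] [DistribMulAction H M]
  (h : One T V z) (R : MRep V cg z M H) {y : G} (hy : y ∈ V) (hy1 : y ≠ 1) (hyz : y ≠ z)
include h hy hy1 hyz

/-- the record `PP.Gen` -/
theorem pp_gen [Finite G] [Finite H] (hN : NT V) (h4 : 4 ≤ (ee V z).relIndex (ws V z)) :
    PP.Gen (LL R y) (AA R y) (II R y) (AL R y) where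
  two := h.rp_two R
  zero := fun h0 => h.in_ne R hy hy1 hyz h0 rfl
  gen := h.in_gen R hy hy1 hyz
  smul := fun x _ hl => smul_mem_LL R y x hl
  trans := fun hl hm => trans_LL R y hl hm
  A_conj := fun _ _ _ hl ha => h.in_A_conj R hy hy1 hyz hl ha
  I_conj := fun x _ _ hl hu => h.in_I_conj R hy hy1 hyz hl x hu
  sq := fun hl ha => h.in_sq R hy hy1 hyz hl ha
  four := fun hl => by rw [h.in_card R hy hy1 hyz hl]; exact h4
  self := fun hl => h.in_self R hy hy1 hyz hl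
  comm := fun hl ha m => h.in_comm R hy hy1 hyz hl ha m
  fix := fun hl ha hu => h.in_fix R hy hy1 hyz hl ha hu
  al_mem := fun hl m => h.in_al_mem R hy hy1 hyz hl m
  al_add := fun hl m m' => h.in_al_add R hy hy1 hyz hl m m'
  al_surj := fun hl ha => h.in_al_surj R hy hy1 hyz hl ha
  al_smul := fun x _ hl m => h.in_al_conj R hy hy1 hyz hl x m
  al_ker := fun hl m => h.in_al_ker R hy hy1 hyz hN hl m
  sy := fun hl m m' => h.in_sy R hy hy1 hyz hl m m'
  phi := fun hl ha ha1 => h.in_phi R hy hy1 hyz hN hl ha ha1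
  Kt := fun hl hu hu0 hul => by
    obtain ⟨c, h1, h2, h3, -⟩ := h.in_Kt R hy hy1 hyz hl hu hu0 hul
    exact ⟨c, h1, h2, h3⟩
  nrm := fun hl hx => h.in_norm R hy hy1 hyz hl hx
  s1 := fun hl hm h1 h2 _ he he' => h.in_s1 R hy hy1 hyz hN hl hm h1 h2 he he'
  s3 := fun hl hm h1 h2 h3 _ he => h.in_s3 R hy hy1 hyz hN hl hm h1 h2 h3 he
  alpha := fun hl hm h1 h2 _ hu hu' hu0 => h.m_alpha_pair hN R hy hy1 hyz hl hm h1 h2 hu hu' hu0
  kappa := fun {l m} hl hm _ h2 x h3 h4' hf => by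
    obtain ⟨u, hu0, hu, hu'⟩ := h.m_kappa' hN R hy hy1 hyz hl hm h2 (v := x)
      (fun e => h3 (eq_of_sub_eq_zero (by rw [sub_eq_add_neg, h.rp_neg R]; exact e)))
      (fun e => h4' (by
        rw [add_comm x l]
        exact eq_add_of_sub_eq (by rw [sub_eq_add_neg, h.rp_neg R]; exact e))) hf
    exact ⟨u, hu, hu', hu0⟩
  bs := fun {l a} hl ha ha1 => by
    obtain ⟨o, h1, h2, h3⟩ := h.in_bs R hy hy1 hyz hl ha ha1
    refine ⟨o, h1, h2, ?_⟩
    rwa [inv_eq_of_mul_eq_one_left (h.in_sq R hy hy1 hyz hl ha)] at h3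

/-- the record `PE.Dat` -/
theorem pe_dat [Finite G] [Finite H] (hN : NT V) (h4 : 4 ≤ (ee V z).relIndex (ws V z))
    (part : ∀ {l m : M}, l ∈ LL R y → m ∈ LL R y → AL R y l m ≠ 1 → AL R y m l ≠ 1 →
      AL R y l m • m = m ∧ ∀ a ∈ AA R y l, AL R y m (a • m + m) = 1) :
    PE.Dat (LL R y) (AA R y) (II R y) (AL R y) := (h.pp_gen R hy hy1 hyz hN h4).toPE part

omit hy hy1 hyz in
/-- `|A| ≥ 4`, no `λ`-transvections, `D_z > I` is impossible (planes allowed) -/
theorem dd_big [Finite G] (hN : NT V) (h4 : 4 ≤ (ee V z).relIndex (ws V z)) (hD : ¬ dd V z ≤ ii V) : False := by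
  obtain ⟨y, hy, hy1, hyz⟩ := h.ln.exists_y
  obtain ⟨M, H, iM, fM, iH, fH, iA, -, ⟨R⟩⟩ := h.fam.exists_mrep
  exact (h.pp_gen R hy hy1 hyz hN h4).six_false
    (fun hl hm h1 ha => h.in_nsix R hy hy1 hyz hN hD hl hm h1 ha)
    (fun hl hm h1 => h.in_E_symm R hy hy1 hyz hN hD hl hm h1) (self_mem_LL R y)

end One

end Cfsg.Agent.Omega.NO3S.TwoOne

end

-- merged: Cfsg.Agent.Mrg.Omega.NO3S.TwoOne.PG.Five
section

section


/-!
# NO-3S, `TwoOne` / `CompP`, `k ≥ 2`, `D_x = I`: (5.1) of bb OMEGA #19417 (helper409)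

`h : One T V z`, `hN : NT V`, `hD : dd V z ≤ ii V`, `4 ≤ |A|`: for line vectors `l`, `m`
* `One.in_five` : `AL m l ≠ 1 → AL l m ≠ 1` (all planes allowed).

Group level: `L` another line on `z`, `y ∈ V`, `q ∈ L` points `≠ z`, `y ∉ E_z^L`; `e ∈ E_y` with `[e, q] = 1`, `f ∈ E_q^L` moves
`y`: `j = e e^f ∈ D_q^L = I_L` has on `W_y` the functional of `e` (`One.dd_one`).
-/

set_option autoImplicit false
set_option linter.unusedSectionVars false

namespace Cfsg.Agent.Omega.NO3S.TwoOne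

open Subgroup Cfsg Cfsg.Agent.ZN Cfsg.Agent.MinSimple.Geo Cfsg.Agent.Omega.CaseL
open Cfsg.Agent.Omega.NO3S.Fit
open Cfsg.Agent.ZN.Block (conj_mem_of_normalizer conj_mem_of_normalizer' le_normalizer_of_forall
  mem_normalizer_of)
open scoped commutatorElement

universe u

variable {G : Type u} [Group G]

/-- a non trivial `a ∈ A` fixes `m` if `[m, A] ≤ {0, v}` and `|A| ≥ 4` -/
theorem exists_kill {M H : Type*} [AddCommGroup M] [Group H] [DistribMulAction H M] {A : Subgroup H} {m v : M}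
    (two : ∀ x : M, x + x = 0) (sq : ∀ a ∈ A, a * a = 1) (h4 : 4 ≤ Nat.card A) (hv : ∀ a ∈ A, a • v = v)
    (hm : ∀ a ∈ A, a • m = m ∨ a • m = m + v) : ∃ a ∈ A, a ≠ 1 ∧ a • m = m := by
  have hcard : ∀ x : H, ∃ c ∈ A, c ≠ 1 ∧ c ≠ x := by
    intro x
    by_contra hcon
    push Not at hcon
    have hfin : Finite A := Nat.finite_of_card_ne_zero (by omega)
    have : Nat.card A ≤ 2 := by
      have hsub : (A : Set H) ⊆ {1, x} := fun b hb => by
        by_cases hb1 : b = 1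
        · exact Or.inl hb1
        · exact Or.inr (hcon b hb hb1)
      calc Nat.card A = Set.ncard (A : Set H) := Nat.card_coe_set_eq _
        _ ≤ Set.ncard ({1, x} : Set H) := Set.ncard_le_ncard hsub
        _ ≤ 2 := (Set.ncard_insert_le _ _).trans (by rw [Set.ncard_singleton])
    omega
  obtain ⟨a, ha, ha1, -⟩ := hcard 1
  obtain ⟨c, hc, hc1, hca⟩ := hcard a
  rcases hm a ha with e1 | e1
  · exact ⟨a, ha, ha1, e1⟩
  rcases hm c hc with e2 | e2
  · exact ⟨c, hc, hc1, e2⟩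
  refine ⟨c * a, mul_mem hc ha, fun e => hca ?_, ?_⟩
  · have h1 := eq_inv_of_mul_eq_one_left e
    rw [h1, inv_eq_of_mul_eq_one_left (sq a ha)]
  · rw [mul_smul, e1, smul_add, e2, hv c hc, add_assoc, two, add_zero]

theorem dd_le_ii_cj {V : Subgroup G} {z c : G} (hD : dd V z ≤ ii V) : dd (cj c V) (c * z * c⁻¹) ≤ ii (cj c V) := by
  intro w hw
  rw [sig_ii_cj]
  apply hD
  have h1 := hw.1
  rw [ws_cj] at h1
  have h2 := conj_mem_ws c⁻¹ h1
  have e1 : c⁻¹ * (c * z * c⁻¹) * c⁻¹⁻¹ = z := by group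
  rw [e1, inv_inv] at h2
  refine ⟨h2, fun p hp hp1 b hb => ?_⟩
  have h3 : c * b * c⁻¹ ∈ ws (cj c V) (c * p * c⁻¹) := by
    rw [ws_cj]; exact conj_mem_ws c hb
  have h4 := hw.2 _ (conj_mem_cj (g := c) hp) (fun e => hp1 (conj_eq_one_iff.mp e)) _ h3
  calc c⁻¹ * w * c * b = c⁻¹ * (w * (c * b * c⁻¹)) * c := by group
    _ = c⁻¹ * (c * b * c⁻¹ * w) * c := by rw [h4]
    _ = b * (c⁻¹ * w * c) := by group

namespace One

/-- `D_z = I` at one point gives `D_p = I` at every point -/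
theorem dd_le_ii_pt [Finite G] {T V : Subgroup G} {z p : G} (h : One T V z) (hD : dd V z ≤ ii V) (hp : p ∈ V)
    (hp1 : p ≠ 1) : dd V p ≤ ii V := by
  intro w hw
  obtain ⟨x, hx, hxz⟩ := h.xl_trans hp hp1 h.ln.z_mem h.ln.z_ne
  have hxn := h.xl_le_normalizer hx
  have h1 := conj_mem_dd hxn hw
  rw [hxz] at h1
  have h2 := conj_mem_of_normalizer' (normalizer_le_normalizer_ii V) hxn (hD h1)
  have e : x⁻¹ * (x * w * x⁻¹) * x = w := by group
  rwa [e] at h2

/-- the group level of (5.1) -/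
theorem dd_one [Finite G] {T V L : Subgroup G} {z y q : G} (h : One T V z) (hN : NT V) (hD : dd L q ≤ ii L)
    (hL : L ∈ lines V z) (hy : y ∈ V) (hy1 : y ≠ 1) (hyz : y ≠ z) (hq : q ∈ L) (hq1 : q ≠ 1) (hqz : q ≠ z)
    (yL : y ∉ ee L z) {e : G} (he : e ∈ ee V y) (heq : e * q = q * e) : ∃ j ∈ ii L, j ∈ ee V z ∧
    ∀ a ∈ ws V z, ∀ b ∈ ws V y, Tw V z a y b → (j * b = b * j ↔ e * a = a * e) := by
  obtain ⟨T', h', hNL, hws, hkq⟩ := h.line hN hL
  have hz := h.ln.z_mem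
  have hz1 := h.ln.z_ne
  have hs : z * y ∈ V := mul_mem hz hy
  have hs1 : z * y ≠ 1 := h.mul_ne_one hy (Ne.symm hyz)
  obtain ⟨f, hf, hfy⟩ := h'.nt_move_ee hNL hq hq1 hL.2 hz1 (Ne.symm hqz) (b := y)
    (by rw [hws]; exact h.V_le hz hz1 hy) yL
  have hfV : f ∈ kq V z := by
    rw [← hkq]
    exact hf.2 z hL.2 hz1
  have h2 : f * e * f⁻¹ ∈ ee V (z * y) := by
    have := conj_mem_ee (h.kq_le_normalizer hz hz1 hfV) he
    rwa [hfy] at this
  have hee := h.sq hy hy1 e he.1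
  have hei : e⁻¹ = e := inv_eq_self hee
  have heL : e ∈ centralizer (L : Set G) :=
    h'.mem_centralizer_of hq hq1 hL.2 hz1 (Ne.symm hqz) heq
      (h.V_comm hz (h.ws_le_centralizer_V hy hy1 he.1)).symm
  have h1 : e * (f * e * f⁻¹) ∈ ws L q := by
    have e1 : e * (f * e * f⁻¹) = (e * f * e⁻¹) * f⁻¹ := by rw [hei]; group
    rw [e1]
    exact mul_mem (conj_mem_of_normalizer (h'.cent_norm hq) heL hf.1) (inv_mem hf.1)
  -- `f e f⁻¹` and `e` act in the same way on `W_z`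
  have hze := h.V_comm hz (h.ws_le_centralizer_V hy hy1 he.1)
  have hsame : ∀ a ∈ ws V z, (f * e * f⁻¹ * a = a * (f * e * f⁻¹) ↔ e * a = a * e) := by
    intro a ha
    constructor
    · intro hc
      rcases h.kq_cases hz (inv_mem hfV) ha with e1 | e1
      · rw [inv_inv] at e1
        have : e * (f⁻¹ * a * f) = (f⁻¹ * a * f) * e := by
          calc e * (f⁻¹ * a * f) = f⁻¹ * (f * e * f⁻¹ * a) * f := by group
            _ = f⁻¹ * (a * (f * e * f⁻¹)) * f := by rw [hc]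
            _ = (f⁻¹ * a * f) * e := by group
        rwa [e1] at this
      · rw [inv_inv] at e1
        have : e * (f⁻¹ * a * f) = (f⁻¹ * a * f) * e := by
          calc e * (f⁻¹ * a * f) = f⁻¹ * (f * e * f⁻¹ * a) * f := by group
            _ = f⁻¹ * (a * (f * e * f⁻¹)) * f := by rw [hc]
            _ = (f⁻¹ * a * f) * e := by group
        rw [e1] at this
        calc e * a = z⁻¹ * ((z * e) * a) := by group
          _ = z⁻¹ * (e * (z * a)) := by rw [hze]; group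
          _ = z⁻¹ * (z * a * e) := by rw [this]
          _ = a * e := by group
    · intro hc
      rcases h.kq_cases hz (inv_mem hfV) ha with e1 | e1
      · rw [inv_inv] at e1
        calc f * e * f⁻¹ * a = f * (e * (f⁻¹ * a * f)) * f⁻¹ := by group
          _ = f * ((f⁻¹ * a * f) * e) * f⁻¹ := by rw [e1, hc]
          _ = a * (f * e * f⁻¹) := by group
      · rw [inv_inv] at e1
        have : e * (f⁻¹ * a * f) = (f⁻¹ * a * f) * e := by
          rw [e1]
          calc e * (z * a) = (e * z) * a := by group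
            _ = z * (e * a) := by rw [← hze]; group
            _ = z * a * e := by rw [hc]; group
        calc f * e * f⁻¹ * a = f * (e * (f⁻¹ * a * f)) * f⁻¹ := by group
          _ = f * ((f⁻¹ * a * f) * e) * f⁻¹ := by rw [this]
          _ = a * (f * e * f⁻¹) := by group
  -- `j` commutes with `W_z`
  have hjz : ∀ a ∈ ws V z, e * (f * e * f⁻¹) * a = a * (e * (f * e * f⁻¹)) := by
    intro a ha
    by_cases hc : e * a = a * e
    · exact mul_comm_of hc ((hsame a ha).mpr hc)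
    · exact h.mv_mul hz (he.2 z hz hz1) (h2.2 z hz hz1) ha hc (fun e' => hc ((hsame a ha).mp e'))
  have h0 : e * (f * e * f⁻¹) ∈ ii L := by
    refine hD (h'.mem_dd hq hq1 hL.2 hz1 (Ne.symm hqz) h1 fun b hb => ?_)
    rw [hws] at hb
    exact hjz b hb
  refine ⟨_, h0, ⟨?_, fun p hp hp1 => mul_mem (he.2 p hp hp1) (h2.2 p hp hp1)⟩, fun a ha b hb ht => ?_⟩
  · rw [← hws]
    exact ii_le hL.2 hz1 h0
  · have h3 : f * e * f⁻¹ * a = a * (f * e * f⁻¹) ↔ f * e * f⁻¹ * b = b * (f * e * f⁻¹) :=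
      h.twin_iff hz hz1 hy hy1 hyz h2 ha ht
    have h4 : e * b = b * e := h.comm hy hy1 _ he.1 _ hb
    have h5 : e * (f * e * f⁻¹) * b = b * (e * (f * e * f⁻¹)) ↔
        f * e * f⁻¹ * b = b * (f * e * f⁻¹) := by
      constructor
      · intro hc
        have e1 : f * e * f⁻¹ = e⁻¹ * (e * (f * e * f⁻¹)) := by group
        rw [e1]
        exact mul_comm_of (inv_comm_of h4) hc
      · intro hc
        exact mul_comm_of h4 hc
    rw [h5, ← h3]
    exact hsame a ha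

variable {T V : Subgroup G} {z : G} {M H : Type u} [AddCommGroup M] [Group H] [DistribMulAction H M]
  (h : One T V z) (R : MRep V cg z M H) {y : G} (hy : y ∈ V) (hy1 : y ≠ 1) (hyz : y ≠ z)
include h hy hy1 hyz

/-- at `v₀` -/
theorem loc_dd_one [Finite G] (hN : NT V) (hD : dd V z ≤ ii V) {x : H} (h1 : al0 R y (x • R.pi y) = 1)
    (h2 : al0 R y (x⁻¹ • R.pi y) ≠ 1) {e : M} (he : al0 R y e = 1) :
    ∃ j, x⁻¹ • j ∈ i0 R ∧ al0 R y j = 1 ∧ ∀ a ∈ a0 R y, a • j + j = a • e + e := by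
  have hz := h.ln.z_mem
  have hz1 := h.ln.z_ne
  have hyW := h.V_le hz hz1 hy
  obtain ⟨f, hf, rfl⟩ := R.phi_surj x
  have hfz : f * z * f⁻¹ = z := conj_eq_of_comm (mem_centralizer_singleton_iff.mp hf)
  have hL : cj f V ∈ lines V z := by
    have := mem_lines_cj (g := f) (L := V) (V := V) (x := z) ⟨⟨1, (cj_one V).symm⟩, hz⟩
    rwa [hfz] at this
  have hqL : f * y * f⁻¹ ∈ cj f V := conj_mem_cj hy
  have hqW : f * y * f⁻¹ ∈ ws V z := le_ws hL hqL
  have hq1 : f * y * f⁻¹ ≠ 1 := fun e => hy1 (conj_eq_one_iff.mp e)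
  have hqz : f * y * f⁻¹ ≠ z := fun e => hyz (by
    calc y = f⁻¹ * (f * y * f⁻¹) * f := by group
      _ = f⁻¹ * (f * z * f⁻¹) * f := by rw [e, hfz]
      _ = z := by group)
  have hqE : f * y * f⁻¹ ∈ ee V z := by
    rw [h.rp_act R hf hyW] at h1
    exact (h.al0_one R hy hy1 hyz hqW).mp h1
  have yL : y ∉ ee (cj f V) z := by
    intro hE
    apply h2
    have h3 : y ∈ ee (cj f V) (f * z * f⁻¹) := by rw [hfz]; exact hE
    have h4 := sig_ee_cj.mp h3
    have h5 : f⁻¹ * y * f⁻¹⁻¹ ∈ ee V z := by rwa [inv_inv]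
    rw [← R.phi_inv hf, h.rp_act R (inv_mem hf) hyW]
    exact (h.al0_one R hy hy1 hyz h5.1).mpr h5
  have hDL : dd (cj f V) (f * y * f⁻¹) ≤ ii (cj f V) := dd_le_ii_cj (h.dd_le_ii_pt hD hy hy1)
  obtain ⟨w, hw, rfl⟩ := h.rp_surj R e
  have hwE := (h.al0_one R hy hy1 hyz hw).mp he
  obtain ⟨e', he'E, hee⟩ := h.ee_swap hy hy1 hyz hwE
  obtain ⟨j, hj, hjE, hjf⟩ := h.dd_one hN hDL hL hy hy1 hyz hqL hq1 hqz yL he'E
    (h.ee_comm hy hy1 hz hz1 he'E hqE)
  refine ⟨R.pi j, ?_, (h.al0_one R hy hy1 hyz hjE.1).mpr hjE, fun a ha => ?_⟩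
  · rw [← R.phi_inv hf, h.rp_act R (inv_mem hf) hjE.1, inv_inv]
    exact (h.mem_i0 R).mpr ⟨_, sig_ii_cj.mp hj, rfl⟩
  · obtain ⟨c, hc, rfl⟩ := (h.mem_a0 R hy hy1).mp ha
    obtain ⟨a', ha', ht'⟩ := h.tw_exists hy hy1 hz hz1 hc
    have h3 := (hjf a' ha' c hc (h.tw_symm ht')).trans (hee a' ha' c hc (h.tw_symm ht'))
    obtain ⟨h4, h5⟩ := h.rp_ee R hy hy1 hyz hjE hc
    obtain ⟨h6, h7⟩ := h.rp_ee R hy hy1 hyz hwE hc
    have h8 := h.rp_two R
    by_cases h9 : w * c = c * w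
    · rw [h4 (h3.mpr h9), h6 h9, h8, h8]
    · rw [h5 (fun e => h9 (h3.mp e)), h7 h9, add_comm (R.pi j), add_comm (R.pi w), add_assoc, add_assoc, h8, h8]

/-- (S1) on `M` for `m ∈ Ē_l`, `D_z = I` -/
theorem in_dd_one [Finite G] (hN : NT V) (hD : dd V z ≤ ii V) {l m : M} (hl : l ∈ LL R y) (hm : m ∈ LL R y)
    (h1 : AL R y l m = 1) (h2 : AL R y m l ≠ 1) {e : M} (he : AL R y l e = 1) :
    ∃ j ∈ II R y m, AL R y l j = 1 ∧ ∀ a ∈ AA R y l, a • j + j = a • e + e := by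
  obtain ⟨g, hg⟩ := hl
  obtain ⟨k, hk⟩ := hm
  have hg' : g • R.pi y = l := hg
  have hk' : k • R.pi y = m := hk
  have hgk : (g⁻¹ * k) • R.pi y = g⁻¹ • m := by rw [mul_smul, hk']
  have h3 : al0 R y ((g⁻¹ * k) • R.pi y) = 1 := by
    rw [h.AL_eq R hy hy1 hyz hg'] at h1
    rw [hgk]
    exact conj_eq_one_iff.mp h1
  have h4 : al0 R y ((g⁻¹ * k)⁻¹ • R.pi y) ≠ 1 := by
    intro e
    apply h2
    have e1 : (g⁻¹ * k)⁻¹ = k⁻¹ * g := by group
    rw [e1] at e
    rw [h.AL_eq R hy hy1 hyz hk', ← hg', smul_smul, e, mul_one, mul_inv_cancel]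
  have h5 : al0 R y (g⁻¹ • e) = 1 := by
    rw [h.AL_eq R hy hy1 hyz hg'] at he
    exact conj_eq_one_iff.mp he
  obtain ⟨j, hj, hj1, hjf⟩ := h.loc_dd_one R hy hy1 hyz hN hD h3 h4 h5
  refine ⟨g • j, ?_, ?_, fun a ha => ?_⟩
  · rw [h.mem_II R hy hy1 hyz hk', smul_smul]
    have e1 : (g⁻¹ * k)⁻¹ = k⁻¹ * g := by group
    rwa [e1] at hj
  · rw [h.AL_eq R hy hy1 hyz hg', inv_smul_smul, hj1, mul_one, mul_inv_cancel]
  · rw [h.mem_AA R hy hy1 hyz hg'] at ha
    have h7 := congrArg (fun u => g • u) (hjf _ ha)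
    change g • ((g⁻¹ * a * g) • j + j) = g • ((g⁻¹ * a * g) • g⁻¹ • e + g⁻¹ • e) at h7
    rw [smul_add, smul_add, smul_inv_smul, smul_smul, smul_smul, smul_smul] at h7
    have e1 : g * (g⁻¹ * a * g) = a * g := by group
    have e2 : a * g * g⁻¹ = a := by group
    rw [e1, e2, mul_smul] at h7
    exact h7

/-- **(5.1)** -/
theorem in_five [Finite G] (hN : NT V) (hD : dd V z ≤ ii V) (h4 : 4 ≤ (ee V z).relIndex (ws V z)) {l m : M}
    (hl : l ∈ LL R y) (hm : m ∈ LL R y) (h2 : AL R y m l ≠ 1) : AL R y l m ≠ 1 := by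
  intro h1
  obtain ⟨a, ha, ha1, ham⟩ := exists_kill (A := AA R y l) (m := m) (v := l) (h.rp_two R)
    (fun a ha => h.in_sq R hy hy1 hyz hl ha) (by rw [h.in_card R hy hy1 hyz hl]; exact h4)
    (fun a ha => h.in_fix R hy hy1 hyz hl ha (h.in_self R hy hy1 hyz hl))
    ((h.in_al_ker R hy hy1 hyz hN hl m).mp h1)
  obtain ⟨e, he, hae⟩ := h.in_phi R hy hy1 hyz hN hl ha ha1
  obtain ⟨j, hj, -, hjf⟩ := h.in_dd_one R hy hy1 hyz hN hD hl hm h1 h2 he
  have h3 := hjf a ha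
  have h5 : a • j ∈ II R y m := by
    have := h.in_I_conj R hy hy1 hyz hm a hj
    rwa [ham] at this
  have h6 : l ∈ II R y m := by
    have e1 : a • e + e = l := by
      rw [hae]
      calc e + l + e = (e + e) + l := by abel
        _ = l := by rw [h.rp_two R, zero_add]
    rw [← e1, ← h3]
    exact add_mem h5 hj
  exact h2 ((h.in_al_ker R hy hy1 hyz hN hm l).mpr fun b hb => Or.inl (h.in_fix R hy hy1 hyz hm hb h6))

end One

end Cfsg.Agent.Omega.NO3S.TwoOne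

end

section


/-!
# NO-3S, `q = 2`, `n = 1`: `k ≥ 2`, no `λ`-transvections is impossible (helper409's text, bb OMEGA #19417)

* `One.pg_dat` : `D_z = I` : the record `PG.Dat`;
* `One.dd_small` : `D_z = I` is impossible;
* `One.nt_false` : `One T V z`, `NT V`, `4 ≤ |A|` is impossible;
* **`ntBigP : NtBigP K`**.
-/

set_option autoImplicit false
set_option linter.unusedSectionVars false

namespace Cfsg.Agent.Omega.NO3S.TwoOne

open Subgroup Cfsg Cfsg.Agent.ZN Cfsg.Agent.MinSimple.Geo Cfsg.Agent.Omega.CaseL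
open Cfsg.Agent.Omega.NO3S.Fit Cfsg.Agent.Omega.MinPar Cfsg.Agent.Omega.Frame Cfsg.Agent.Omega.FrameNOFF

universe u

variable {G : Type u} [Group G]

namespace One

variable {T V : Subgroup G} {z : G} {M H : Type u} [AddCommGroup M] [Group H] [DistribMulAction H M]
  (h : One T V z) (R : MRep V cg z M H) {y : G} (hy : y ∈ V) (hy1 : y ≠ 1) (hyz : y ≠ z)
include h hy hy1 hyz

/-- `D_z = I` : the record of section 5 -/
theorem pg_dat [Finite G] [Finite H] (hN : NT V) (hD : dd V z ≤ ii V) (h4 : 4 ≤ (ee V z).relIndex (ws V z)) :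
    PG.Dat (LL R y) (AA R y) (II R y) (AL R y) where
  two := h.rp_two R
  zero := fun h0 => h.in_ne R hy hy1 hyz h0 rfl
  gen := h.in_gen R hy hy1 hyz
  smul := fun x _ hl => smul_mem_LL R y x hl
  trans := fun hl hm => trans_LL R y hl hm
  A_conj := fun _ _ _ hl ha => h.in_A_conj R hy hy1 hyz hl ha
  I_conj := fun x _ _ hl hu => h.in_I_conj R hy hy1 hyz hl x hu
  sq := fun hl ha => h.in_sq R hy hy1 hyz hl ha
  four := fun hl => h.in_four R hy hy1 hyz h4 hl
  self := fun hl => h.in_self R hy hy1 hyz hl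
  comm := fun hl ha m => h.in_comm R hy hy1 hyz hl ha m
  fix := fun hl ha hu => h.in_fix R hy hy1 hyz hl ha hu
  al_mem := fun hl m => h.in_al_mem R hy hy1 hyz hl m
  al_add := fun hl m m' => h.in_al_add R hy hy1 hyz hl m m'
  al_surj := fun hl ha => h.in_al_surj R hy hy1 hyz hl ha
  al_conj := fun x _ hl m => h.in_al_conj R hy hy1 hyz hl x m
  al_ker := fun hl m => h.in_al_ker R hy hy1 hyz hN hl m
  sy := fun hl m m' => h.in_sy R hy hy1 hyz hl m m'
  phi := fun hl ha ha1 => h.in_phi R hy hy1 hyz hN hl ha ha1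
  five := fun hl hm h1 => h.in_five R hy hy1 hyz hN hD h4 hl hm h1
  s1 := fun hl hm h1 h2 _ he he' => h.in_s1 R hy hy1 hyz hN hl hm h1 h2 he he'
  s3 := fun hl hm h1 h2 ⟨_, ha, ha'⟩ => h.in_s3w R hy hy1 hyz hN hl hm h1 h2 ha ha'
  alpha := fun hl hm h1 h2 hu hu' hu0 => h.m_alpha_pair hN R hy hy1 hyz hl hm h1 h2 hu hu' hu0
  kappa := fun hl hm _ h2 h3 h4' hf => h.m_kappa' hN R hy hy1 hyz hl hm h2 h3 h4' hf

omit hy hy1 hyz in
/-- `|A| ≥ 4`, no `λ`-transvections, `D_z = I` is impossible (planes allowed) -/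
theorem dd_small [Finite G] (hN : NT V) (h4 : 4 ≤ (ee V z).relIndex (ws V z)) (hD : dd V z ≤ ii V) : False := by
  obtain ⟨y, hy, hy1, hyz⟩ := h.ln.exists_y
  obtain ⟨M, H, iM, fM, iH, fH, iA, -, ⟨R⟩⟩ := h.fam.exists_mrep
  have G := h.pp_gen R hy hy1 hyz hN h4
  have D := h.pg_dat R hy hy1 hyz hN hD h4
  have hl := self_mem_LL R y
  obtain ⟨m, hm, h1⟩ := G.exists_far hl
  exact G.false_of_part (fun hl hm h1 h2 => D.part (fun hl ha ha1 ho ho' hinv => (G.sgm hl ha ha1 ho ho' hinv).2.2)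
    hl hm h1 h2) hl hm h1 (D.five hm hl h1)

omit hy hy1 hyz in
/-- **`|A| ≥ 4`, no `λ`-transvections is impossible.** -/
theorem nt_false [Finite G] (hN : NT V) (h4 : 4 ≤ (ee V z).relIndex (ws V z)) : False := by
  by_cases hD : dd V z ≤ ii V
  · exact h.dd_small hN h4 hD
  · exact h.dd_big hN h4 hD

end One

/-- **`NtBigP`** -/
theorem ntBigP (K : Cls.{u}) : NtBigP K :=
  fun _ _ _ _ _ _ _ _ ho hc _ _ _ _ _ _ _ _ _ _ => (ho.nt_false hc.2 (ho.four_of_not_kOne hc.1)).elim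

end Cfsg.Agent.Omega.NO3S.TwoOne

end

end
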